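import Mathlib.AlgebraicGeometry.Sites.Fpqc
import Mathlib.AlgebraicGeometry.Morphisms.UniversallyOpen
import Mathlib.Geometry.RingedSpace.LocallyRingedSpace.HasColimits

/-!
# An fppf covering is the coequalizer of its kernel pair in ringed spaces
-/

set_option autoImplicit false
set_option backward.isDefEq.respectTransparency false
set_option backward.isDefEq.respectTransparency.types false

universe u

open CategoryTheory Limits AlgebraicGeometry TopologicalSpace Opposite Polynomial

noncomputable section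

namespace Groth.Agent.GrpdLib.Slice16047

/-- Schemes to ringed spaces. -/
abbrev toSh : Scheme.{u} ⥤ SheafedSpace CommRingCat.{u} :=
  Scheme.forgetToLocallyRingedSpace ⋙ LocallyRingedSpace.forgetToSheafedSpace

/-- The ring whose spectrum represents global sections. -/
abbrev A1 : CommRingCat.{u} := CommRingCat.of (Polynomial (ULift.{u} ℤ))

/-- The morphism to the affine line attached to a global section. -/
def secHom {X : Scheme.{u}} (s : Γ(X, ⊤)) : X ⟶ Spec A1.{u} :=
  X.toSpecΓ ≫ Spec.map (CommRingCat.ofHom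
    ((Polynomial.eval₂RingHom ((Int.castRingHom _).comp (ULift.ringEquiv.toRingHom)) s)))

lemma secHom_appTop {X : Scheme.{u}} (s : Γ(X, ⊤)) :
    (secHom s).appTop ((Scheme.ΓSpecIso A1.{u}).inv (Polynomial.X)) = s := by
  rw [secHom, Scheme.Hom.comp_appTop, Scheme.toSpecΓ_appTop]
  have h := ConcreteCategory.congr_hom (Scheme.ΓSpecIso_inv_naturality (CommRingCat.ofHom
    (Polynomial.eval₂RingHom ((Int.castRingHom Γ(X, ⊤)).comp (ULift.ringEquiv.toRingHom)) s)))
    Polynomial.X
  simp only [CommRingCat.comp_apply] at h ⊢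
  refine (congrArg _ h.symm).trans ((Iso.inv_hom_id_apply (Scheme.ΓSpecIso Γ(X, ⊤)) _).trans ?_)
  exact Polynomial.eval₂_X _ _

lemma uliftInt_ext {R : Type u} [CommRing R] (F G : ULift.{u} ℤ →+* R) : F = G :=
  RingHom.ext fun ⟨n⟩ => RingHom.congr_fun (RingHom.ext_int
    (F.comp (ULift.ringEquiv (R := ℤ)).symm.toRingHom) (G.comp (ULift.ringEquiv (R := ℤ)).symm.toRingHom)) n

lemma comp_secHom {X Y : Scheme.{u}} (g : Y ⟶ X) (s : Γ(X, ⊤)) :
    g ≫ secHom s = secHom (g.appTop s) := by
  rw [secHom, secHom, ← Category.assoc, Scheme.toSpecΓ_naturality, Category.assoc, ← Spec.map_comp]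
  congr 1
  refine congrArg _ (CommRingCat.hom_ext (Polynomial.ringHom_ext' (uliftInt_ext _ _) ?_))
  simp

variable {X Y : Scheme.{u}} (f : Y ⟶ X)

/-- The two projections have the same preimages of opens of the base. -/
lemma preimage_kernelPair (U : X.Opens) :
    pullback.fst f f ⁻¹ᵁ f ⁻¹ᵁ U = pullback.snd f f ⁻¹ᵁ f ⁻¹ᵁ U :=
  congrArg (fun k : pullback f f ⟶ X => k ⁻¹ᵁ U) pullback.condition

/-- Sections descend along an fppf covering. -/
theorem exists_section [Flat f] [Surjective f] [LocallyOfFinitePresentation f] (U : X.Opens)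
    (s : Γ(Y, f ⁻¹ᵁ U))
    (h : (pullback.fst f f).app (f ⁻¹ᵁ U) s =
      (pullback.snd f f).appLE (f ⁻¹ᵁ U) _ (preimage_kernelPair f U).le s) :
    ∃ x : Γ(X, U), f.app U x = s := by
  let fU : (f ⁻¹ᵁ U).toScheme ⟶ U.toScheme := f ∣_ U
  have : Flat fU := IsZariskiLocalAtTarget.restrict ‹Flat f› U
  have : Surjective fU := IsZariskiLocalAtTarget.restrict ‹Surjective f› U
  have : LocallyOfFinitePresentation fU :=
    IsZariskiLocalAtTarget.restrict ‹LocallyOfFinitePresentation f› U
  let q : Γ((f ⁻¹ᵁ U).toScheme, ⊤) := (f ⁻¹ᵁ U).topIso.inv s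
  have hq : ∀ {T : Scheme.{u}} (a b : T ⟶ (f ⁻¹ᵁ U).toScheme), a ≫ fU = b ≫ fU →
      a ≫ secHom q = b ≫ secHom q := by
    intro T a b hab
    have hab' : (a ≫ (f ⁻¹ᵁ U).ι) ≫ f = (b ≫ (f ⁻¹ᵁ U).ι) ≫ f := by
      simpa [fU] using congrArg (· ≫ U.ι) hab
    let l := pullback.lift _ _ hab'
    have hl : ⊤ ≤ l ⁻¹ᵁ (pullback.fst f f ⁻¹ᵁ f ⁻¹ᵁ U) := by
      rw [← Scheme.Hom.comp_preimage, pullback.lift_fst, Scheme.Hom.comp_preimage,
        Scheme.Opens.ι_preimage_self, Scheme.Hom.preimage_top]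
    have hqι : q = (f ⁻¹ᵁ U).ι.appLE (f ⁻¹ᵁ U) ⊤ (by simp) s := by
      simp [q, Scheme.Opens.topIso_inv, Scheme.Hom.appLE]
      rw [← CommRingCat.comp_apply, ← Functor.map_comp]
      rfl
    have key : ∀ (c : T ⟶ (f ⁻¹ᵁ U).toScheme), c.appTop q =
        (c ≫ (f ⁻¹ᵁ U).ι).appLE (f ⁻¹ᵁ U) ⊤ (by simp) s := by
      intro c
      rw [← Scheme.Hom.appLE_comp_appLE c (f ⁻¹ᵁ U).ι _ ⊤ ⊤ (by simp) (by simp),
        CommRingCat.comp_apply, ← hqι, Scheme.Hom.appTop, Scheme.Hom.app_eq_appLE]
      rfl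
    rw [comp_secHom, comp_secHom, key, key]
    refine congrArg _ ?_
    have e₁ : ∀ (c d : T ⟶ Y) (e : c = d) (hc : ⊤ ≤ c ⁻¹ᵁ (f ⁻¹ᵁ U)) (hd : ⊤ ≤ d ⁻¹ᵁ (f ⁻¹ᵁ U)),
        c.appLE _ ⊤ hc s = d.appLE _ ⊤ hd s := by rintro c _ rfl _ _; rfl
    refine (e₁ _ _ (pullback.lift_fst (f := f) (g := f) _ _ hab').symm _
      (by simpa using hl)).trans ?_
    have hl2 : ⊤ ≤ (pullback.lift _ _ hab' ≫ pullback.snd f f) ⁻¹ᵁ (f ⁻¹ᵁ U) := by
      rw [pullback.lift_snd]; simp
    refine Eq.trans ?_ (e₁ _ _ (pullback.lift_snd (f := f) (g := f) _ _ hab') hl2 (by simp))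
    rw [← Scheme.Hom.appLE_comp_appLE l (pullback.fst f f) _ _ ⊤ le_rfl hl,
      ← Scheme.Hom.appLE_comp_appLE l (pullback.snd f f) _ _ ⊤ (preimage_kernelPair f U).le hl,
      CommRingCat.comp_apply, CommRingCat.comp_apply, Scheme.Hom.appLE_eq_app, h]
  obtain ⟨m, hm⟩ : ∃ m : U.toScheme ⟶ Spec A1.{u}, fU ≫ m = secHom q :=
    ⟨EffectiveEpi.desc fU (secHom q) (fun a b hab => hq a b hab), EffectiveEpi.fac _ _ _⟩
  refine ⟨U.topIso.hom (m.appTop ((Scheme.ΓSpecIso A1.{u}).inv Polynomial.X)), ?_⟩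
  have := congrArg (fun k : (f ⁻¹ᵁ U).toScheme ⟶ Spec A1.{u} =>
    (f ⁻¹ᵁ U).topIso.hom (k.appTop ((Scheme.ΓSpecIso A1.{u}).inv Polynomial.X))) hm
  rw [secHom_appTop] at this
  refine Eq.trans ?_ (this.trans (Iso.inv_hom_id_apply (f ⁻¹ᵁ U).topIso s))
  simp [fU, Scheme.Opens.topIso_hom]
  have e : ∀ (V : X.Opens) (W : Y.Opens) (hWV : W ≤ f ⁻¹ᵁ V) (hV : op V = op U)
      (hW : op W = op (f ⁻¹ᵁ U)) (z : Γ(X, V)),
      f.app U (X.presheaf.map (eqToHom hV) z) = Y.presheaf.map (eqToHom hW) (f.appLE V W hWV z) := by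
    intro V W hWV hV hW z
    obtain rfl := Opposite.op_injective hV
    obtain rfl := Opposite.op_injective hW
    simp [Scheme.Hom.appLE_eq_app]
  exact e _ _ _ _ _ _

/-- Sections of the base inject. -/
theorem app_injective [Flat f] [Surjective f] (U : X.Opens) :
    Function.Injective (f.app U) := by
  intro a b hab
  refine TopCat.Presheaf.section_ext X.sheaf U a b fun x hx => ?_
  obtain ⟨y, rfl⟩ := f.surjective x
  have hflat : (f.stalkMap y).hom.Flat := Flat.stalkMap f y
  have hinj : Function.Injective (f.stalkMap y).hom := by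
    algebraize [(f.stalkMap y).hom]
    have : IsLocalHom (algebraMap (X.presheaf.stalk (f y)) (Y.presheaf.stalk y)) :=
      inferInstanceAs (IsLocalHom (f.stalkMap y).hom)
    have := Module.FaithfullyFlat.of_flat_of_isLocalHom (A := X.presheaf.stalk (f y))
      (B := Y.presheaf.stalk y)
    exact FaithfulSMul.algebraMap_injective (X.presheaf.stalk (f y)) (Y.presheaf.stalk y)
  apply hinj
  show f.stalkMap y (X.presheaf.germ U (f y) hx a) = f.stalkMap y (X.presheaf.germ U (f y) hx b)
  rw [Scheme.Hom.germ_stalkMap_apply, Scheme.Hom.germ_stalkMap_apply, hab]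

/-- A morphism of presheafed spaces equalising the kernel pair descends. -/
theorem exists_desc [Flat f] [Surjective f] [LocallyOfFinitePresentation f]
    {W : SheafedSpace CommRingCat.{u}} (g : X.toTopCat ⟶ W.carrier)
    (ac : W.presheaf ⟶ (f.base ≫ g) _* Y.presheaf)
    (hab : (toSh.map (pullback.fst f f)).hom ≫
        (⟨f.base ≫ g, ac⟩ : (toSh.obj Y).toPresheafedSpace ⟶ W.toPresheafedSpace) =
      (toSh.map (pullback.snd f f)).hom ≫
        (⟨f.base ≫ g, ac⟩ : (toSh.obj Y).toPresheafedSpace ⟶ W.toPresheafedSpace)) :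
    ∃ m : (toSh.obj X).toPresheafedSpace ⟶ W.toPresheafedSpace,
      (toSh.map f).hom ≫ m = ⟨f.base ≫ g, ac⟩ := by
  have hx : ∀ (U : Opens W.carrier) (z : W.presheaf.obj (op U)),
      ∃ x : Γ(X, (Opens.map g).obj U), f.app _ x = ac.app (op U) z := by
    intro U z
    refine exists_section f _ _ ?_
    have h := ConcreteCategory.congr_hom (PresheafedSpace.congr_app hab (op U)) z
    refine h.trans ?_
    rw [Scheme.Hom.appLE]
    rfl
  choose x hx using hx
  have inj := fun U : Opens W.carrier => app_injective f ((Opens.map g).obj U)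
  let φ : ∀ U : Opens W.carrier, W.presheaf.obj (op U) →+* Γ(X, (Opens.map g).obj U) := fun U =>
    { toFun := x U
      map_one' := inj U (by rw [hx, map_one, map_one])
      map_mul' := fun a b => inj U (by rw [hx, map_mul, map_mul, hx, hx])
      map_zero' := inj U (by rw [hx, map_zero, map_zero])
      map_add' := fun a b => inj U (by rw [hx, map_add, map_add, hx, hx]) }
  let c : W.presheaf ⟶ g _* X.presheaf :=
    { app := fun U => CommRingCat.ofHom (φ U.unop)
      naturality := fun U V i => by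
        refine CommRingCat.hom_ext (RingHom.ext fun z => inj V.unop ?_)
        show f.app _ (x V.unop (W.presheaf.map i z)) =
          f.app _ (X.presheaf.map ((Opens.map g).map i.unop).op (x U.unop z))
        rw [hx]
        refine (ConcreteCategory.congr_hom (ac.naturality i) z).trans ?_
        refine Eq.trans ?_ (ConcreteCategory.congr_hom
          (f.naturality ((Opens.map g).map i.unop).op) (x U.unop z)).symm
        exact congrArg _ (hx U.unop z).symm }
  refine ⟨⟨g, c⟩, PresheafedSpace.ext _ _ rfl ?_⟩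
  simp only [eqToHom_refl, Functor.whiskerRight_id', Category.comp_id]
  exact NatTrans.ext (funext fun U => CommRingCat.hom_ext (RingHom.ext fun z => hx U.unop z))

/-- Two morphisms of ringed spaces agreeing after an fppf covering are equal. -/
theorem desc_unique [Flat f] [Surjective f] {W : SheafedSpace CommRingCat.{u}}
    (m m' : (toSh.obj X).toPresheafedSpace ⟶ W.toPresheafedSpace)
    (h : (toSh.map f).hom ≫ m = (toSh.map f).hom ≫ m') : m = m' := by
  obtain ⟨g, c⟩ := m
  obtain ⟨g', c'⟩ := m'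
  obtain rfl : g = g' := by
    refine TopCat.hom_ext (ContinuousMap.ext fun x => ?_)
    obtain ⟨y, rfl⟩ := f.surjective x
    exact ConcreteCategory.congr_hom (congrArg PresheafedSpace.Hom.base h) y
  obtain rfl : c = c' := by
    refine NatTrans.ext (funext fun U => CommRingCat.hom_ext (RingHom.ext fun z =>
      app_injective f _ ?_))
    have := ConcreteCategory.congr_hom (PresheafedSpace.congr_app h U) z
    simp only [eqToHom_refl, CategoryTheory.Functor.map_id, Category.comp_id] at this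
    exact this
  rfl

theorem epi_toSh [Flat f] [Surjective f] : Epi (toSh.map f) :=
  ⟨fun m m' h => InducedCategory.hom_ext (desc_unique f _ _ (congrArg InducedCategory.Hom.hom h))⟩

/-- Morphisms of ringed spaces descend along an fppf covering. -/
theorem exists_toSh_desc [Flat f] [Surjective f] [LocallyOfFinitePresentation f]
    {W : SheafedSpace CommRingCat.{u}} (k : toSh.obj Y ⟶ W)
    (hk : toSh.map (pullback.fst f f) ≫ k = toSh.map (pullback.snd f f) ≫ k) :
    ∃ m : toSh.obj X ⟶ W, toSh.map f ≫ m = k := by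
  obtain ⟨⟨b, ac⟩, hb⟩ : ∃ a : (toSh.obj Y).toPresheafedSpace ⟶ W.toPresheafedSpace, k.hom = a :=
    ⟨_, rfl⟩
  have hc := congrArg InducedCategory.Hom.hom hk
  change (toSh.map (pullback.fst f f)).hom ≫ k.hom = (toSh.map (pullback.snd f f)).hom ≫ k.hom at hc
  rw [hb] at hc
  obtain ⟨g, rfl⟩ : ∃ g : X.toTopCat ⟶ W.carrier, f.base ≫ g = b := by
    have hfq : Topology.IsQuotientMap f.base :=
      f.isOpenMap.isQuotientMap f.continuous f.surjective
    have hconst : Function.FactorsThrough (⇑b) (⇑f.base) := by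
      intro y y' e
      obtain ⟨p, rfl, rfl⟩ := Scheme.Pullback.exists_preimage_pullback y y' e
      exact ConcreteCategory.congr_hom (congrArg PresheafedSpace.Hom.base hc) p
    refine ⟨TopCat.ofHom (hfq.lift b.hom hconst), TopCat.hom_ext (ContinuousMap.ext fun y => ?_)⟩
    exact ContinuousMap.congr_fun (hfq.lift_comp b.hom hconst) y
  obtain ⟨m, hm⟩ := exists_desc f g ac hc
  exact ⟨InducedCategory.homMk m, InducedCategory.hom_ext (hm.trans hb.symm)⟩

end Groth.Agent.GrpdLib.Slice16047
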