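import Groth.Agent.GrpdLib.Slice16047.Square
import Groth.Agent.GrpdLib.Slice16047.Coeq
import Mathlib.AlgebraicGeometry.Restrict

/-!
# The groupoid induced on a slice and its quotient
-/

set_option autoImplicit false
set_option backward.isDefEq.respectTransparency false
set_option backward.isDefEq.respectTransparency.types false

universe u

open CategoryTheory Limits AlgebraicGeometry TopologicalSpace

noncomputable section

namespace Groth.Agent.GrpdLib.Slice16047

variable {S : Scheme.{u}} (G : Grpd.GroupoidScheme S) {Z : Scheme.{u}} (ι : Z ⟶ G.U)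

/-- A factorisation through a monomorphism is a base change. -/
theorem isPullback_factor {C : Type*} [Category C] {P V U : C} {h : P ⟶ U} {m : V ⟶ U} [Mono m]
    {f : P ⟶ V} (hf : f ≫ m = h) : IsPullback (𝟙 P) f h m := by
  refine ⟨⟨by rw [Category.id_comp, hf]⟩, ⟨PullbackCone.isLimitAux' _ fun c => ?_⟩⟩
  refine ⟨c.fst, Category.comp_id _, ?_, fun hm1 _ => (Category.comp_id _).symm.trans hm1⟩
  rw [← cancel_mono m]
  exact (Category.assoc _ _ _).trans ((congrArg (c.fst ≫ ·) hf).trans c.condition)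

/-- Cancelling a monomorphism on the base of a pullback square. -/
theorem isPullback_of_comp_mono {C : Type*} [Category C] {P X Y W W' : C} {a : P ⟶ X} {b : P ⟶ Y}
    {f : X ⟶ W} {g : Y ⟶ W} (m : W ⟶ W') [Mono m] (h : IsPullback a b (f ≫ m) (g ≫ m)) :
    IsPullback a b f g := by
  refine ⟨⟨by rw [← cancel_mono m, Category.assoc, Category.assoc]; exact h.w⟩,
    ⟨PullbackCone.isLimitAux' _ fun s => ?_⟩⟩
  have hw : s.fst ≫ f ≫ m = s.snd ≫ g ≫ m := by rw [reassoc_of% s.condition]
  exact ⟨h.lift s.fst s.snd hw, h.lift_fst _ _ _, h.lift_snd _ _ _, fun hm1 hm2 =>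
    h.hom_ext (hm1.trans (h.lift_fst _ _ _).symm) (hm2.trans (h.lift_snd _ _ _).symm)⟩

/-- A pullback square whose leg factors through a monomorphism. -/
theorem isPullback_cancel_leg {C : Type*} [Category C] {P X Y Y' W : C} {a : P ⟶ X} {b : P ⟶ Y'}
    {f : X ⟶ W} {g : Y ⟶ W} (m : Y' ⟶ Y) [Mono m] (h : IsPullback a (b ≫ m) f g) :
    IsPullback a b f (m ≫ g) := by
  refine ⟨⟨by rw [h.w, Category.assoc]⟩, ⟨PullbackCone.isLimitAux' _ fun s => ?_⟩⟩
  have hw : s.fst ≫ f = (s.snd ≫ m) ≫ g := by rw [Category.assoc]; exact s.condition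
  refine ⟨h.lift s.fst (s.snd ≫ m) hw, h.lift_fst _ _ _, ?_, fun hm1 hm2 => h.hom_ext ?_ ?_⟩
  · rw [← cancel_mono m]
    exact (Category.assoc _ _ _).trans (h.lift_snd _ _ _)
  · exact hm1.trans (h.lift_fst _ _ _).symm
  · refine Eq.trans ?_ (h.lift_snd _ _ _).symm
    rw [← Category.assoc]
    exact congrArg (· ≫ m) hm2

/-- The map of the square of the slice into the square of the objects. -/
abbrev prodMap : pullback (ι ≫ G.pU) (ι ≫ G.pU) ⟶ pullback G.pU G.pU :=
  pullback.map (ι ≫ G.pU) (ι ≫ G.pU) G.pU G.pU ι ι (𝟙 S) (Category.comp_id _) (Category.comp_id _)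

/-- The target leg of the induced groupoid. -/
abbrev legT : pullback (prodMap G ι) G.j ⟶ Z :=
  pullback.fst (prodMap G ι) G.j ≫ pullback.fst (ι ≫ G.pU) (ι ≫ G.pU)

/-- The source leg of the induced groupoid. -/
abbrev legS : pullback (prodMap G ι) G.j ⟶ Z :=
  pullback.fst (prodMap G ι) G.j ≫ pullback.snd (ι ≫ G.pU) (ι ≫ G.pU)

lemma arr_t : pullback.snd (prodMap G ι) G.j ≫ G.t = legT G ι ≫ ι := by
  simpa [legT, prodMap] using congrArg (· ≫ pullback.fst G.pU G.pU)
    (pullback.condition (f := prodMap G ι) (g := G.j)).symm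

lemma arr_s : pullback.snd (prodMap G ι) G.j ≫ G.s = legS G ι ≫ ι := by
  simpa [legS, prodMap] using congrArg (· ≫ pullback.snd G.pU G.pU)
    (pullback.condition (f := prodMap G ι) (g := G.j)).symm

variable {T : Scheme.{u}}

/-- A point of the induced groupoid. -/
def indLift (a b : T ⟶ Z) (r : T ⟶ G.R) (ht : r ≫ G.t = a ≫ ι) (hs : r ≫ G.s = b ≫ ι) :
    T ⟶ pullback (prodMap G ι) G.j :=
  pullback.lift (pullback.lift a b (by
      rw [← Category.assoc, ← ht, Category.assoc, G.t_over, ← G.s_over, ← Category.assoc, hs,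
        Category.assoc])) r (by
    apply pullback.hom_ext
    · simp [prodMap, ht]
    · simp [prodMap, hs])

@[simp] lemma indLift_legT (a b : T ⟶ Z) (r : T ⟶ G.R) (ht) (hs) :
    indLift G ι a b r ht hs ≫ legT G ι = a := by simp [indLift, legT]

@[simp] lemma indLift_legS (a b : T ⟶ Z) (r : T ⟶ G.R) (ht) (hs) :
    indLift G ι a b r ht hs ≫ legS G ι = b := by simp [indLift, legS]

@[simp] lemma indLift_snd (a b : T ⟶ Z) (r : T ⟶ G.R) (ht) (hs) :
    indLift G ι a b r ht hs ≫ pullback.snd (prodMap G ι) G.j = r := by simp [indLift]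

lemma ind_ext {m m' : T ⟶ pullback (prodMap G ι) G.j} (h1 : m ≫ legT G ι = m' ≫ legT G ι)
    (h2 : m ≫ legS G ι = m' ≫ legS G ι)
    (h3 : m ≫ pullback.snd (prodMap G ι) G.j = m' ≫ pullback.snd (prodMap G ι) G.j) : m = m' := by
  apply pullback.hom_ext
  · apply pullback.hom_ext <;> simpa [legT, legS] using by assumption
  · exact h3

/-- The induced groupoid as the base change of the arrows from the slice. -/
theorem isPullback_legS :
    IsPullback (pullback.lift (legT G ι) (pullback.snd (prodMap G ι) G.j) (arr_t G ι).symm)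
      (legS G ι) (hOf G ι) ι := by
  refine ⟨⟨by rw [← Category.assoc, pullback.lift_snd]; exact arr_s G ι⟩,
    ⟨PullbackCone.isLimitAux' _ fun c => ?_⟩⟩
  refine ⟨indLift G ι (c.fst ≫ pullback.fst ι G.t) c.snd (c.fst ≫ pullback.snd ι G.t)
    (by simp [pullback.condition]) (by simpa [hOf] using c.condition), ?_, ?_, fun {m} hm1 hm2 => ?_⟩
  · apply pullback.hom_ext <;> simp
  · simp
  · change c.pt ⟶ pullback (prodMap G ι) G.j at m
    rw [PullbackCone.mk_fst] at hm1
    rw [PullbackCone.mk_snd] at hm2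
    apply ind_ext
    · rw [indLift_legT]
      exact ((congrArg (m ≫ ·) (pullback.lift_fst _ _ (arr_t G ι).symm)).symm.trans
        (Category.assoc _ _ _).symm).trans (congrArg (· ≫ pullback.fst ι G.t) hm1)
    · rw [indLift_legS]; exact hm2
    · rw [indLift_snd]
      exact ((congrArg (m ≫ ·) (pullback.lift_snd _ _ (arr_t G ι).symm)).symm.trans
        (Category.assoc _ _ _).symm).trans (congrArg (· ≫ pullback.snd ι G.t) hm1)

/-- Inversion on the induced groupoid. -/
def indInv : pullback (prodMap G ι) G.j ⟶ pullback (prodMap G ι) G.j :=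
  indLift G ι (legS G ι) (legT G ι) (pullback.snd (prodMap G ι) G.j ≫ G.i)
    (by rw [Category.assoc, G.i_t, arr_s]) (by rw [Category.assoc, G.i_s, arr_t])

lemma indInv_legS : indInv G ι ≫ legS G ι = legT G ι := indLift_legS G ι _ _ _ _ _

lemma indInv_legT : indInv G ι ≫ legT G ι = legS G ι := indLift_legT G ι _ _ _ _ _

instance isIso_indInv : IsIso (indInv G ι) := by
  have h : indInv G ι ≫ indInv G ι = 𝟙 _ := by
    apply ind_ext
    · rw [Category.assoc, indInv_legT, indInv_legS, Category.id_comp]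
    · rw [Category.assoc, indInv_legS, indInv_legT, Category.id_comp]
    · rw [Category.assoc, indInv, indLift_snd, ← Category.assoc, indLift_snd, Category.assoc, i_i,
        Category.comp_id, Category.id_comp]
  exact ⟨_, h, h⟩

section Props

variable [IsImmersion ι] [LocallyOfFinitePresentation ι] [IsAffine Z]
  [Flat (hOf G ι)] [LocallyOfFinitePresentation G.s] [QuasiSeparated G.s] [QuasiCompact G.s]
  [QuasiSeparated G.pU]

/-- The source leg is quasi-compact. -/
theorem quasiCompact_legS {S0 : S.Opens} (hS0 : IsAffineOpen S0) (h : Set.range ι ⊆ G.pU ⁻¹ᵁ S0) :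
    QuasiCompact (legS G ι) := by
  let U0 := G.pU ⁻¹ᵁ S0
  let ι' : Z ⟶ U0.toScheme := IsOpenImmersion.lift U0.ι ι (by simpa [U0] using h)
  have hι' : ι' ≫ U0.ι = ι := IsOpenImmersion.lift_fac _ _ _
  have : QuasiSeparatedSpace U0.toScheme :=
    (isQuasiSeparated_iff_quasiSeparatedSpace _ U0.2).mp
      (G.pU.isQuasiSeparated_preimage hS0.isQuasiSeparated)
  have : QuasiCompact ι' := inferInstance
  have he : G.t ⁻¹ᵁ U0 = G.s ⁻¹ᵁ U0 := by
    simp only [U0, ← Scheme.Hom.comp_preimage, G.s_over, G.t_over]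
  let t' : (G.t ⁻¹ᵁ U0).toScheme ⟶ U0.toScheme := G.t ∣_ U0
  let s' : (G.t ⁻¹ᵁ U0).toScheme ⟶ U0.toScheme := (G.R.isoOfEq he).hom ≫ (G.s ∣_ U0)
  have : QuasiCompact (G.s ∣_ U0) := IsZariskiLocalAtTarget.restrict ‹QuasiCompact G.s› U0
  have : QuasiCompact s' := inferInstance
  have hs' : s' ≫ U0.ι = (G.t ⁻¹ᵁ U0).ι ≫ G.s := by simp [s']
  let sn : pullback ι G.t ⟶ (G.t ⁻¹ᵁ U0).toScheme :=
    IsOpenImmersion.lift (G.t ⁻¹ᵁ U0).ι (pullback.snd ι G.t) (by
      rintro _ ⟨p, rfl⟩
      rw [Scheme.Opens.range_ι]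
      show G.t (pullback.snd ι G.t p) ∈ U0
      rw [← Scheme.Hom.comp_apply, ← pullback.condition, Scheme.Hom.comp_apply]
      exact h ⟨_, rfl⟩)
  have hsn : sn ≫ (G.t ⁻¹ᵁ U0).ι = pullback.snd ι G.t := IsOpenImmersion.lift_fac _ _ _
  have sq : IsPullback (pullback.fst ι G.t) sn ι' t' := by
    refine isPullback_of_comp_mono U0.ι ?_
    rw [hι', show t' ≫ U0.ι = (G.t ⁻¹ᵁ U0).ι ≫ G.t from morphismRestrict_ι _ _]
    refine isPullback_cancel_leg (G.t ⁻¹ᵁ U0).ι ?_
    rw [hsn]
    exact IsPullback.of_hasPullback ι G.t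
  have hq : QuasiCompact sn := MorphismProperty.of_isPullback sq inferInstance
  have hh : (sn ≫ s') ≫ U0.ι = hOf G ι := by rw [Category.assoc, hs', reassoc_of% hsn]
  have sq2 := isPullback_of_comp_mono (f := sn ≫ s') (g := ι') U0.ι
    (by rw [hh, hι']; exact isPullback_legS G ι)
  exact MorphismProperty.of_isPullback sq2 inferInstance

theorem flat_legS : Flat (legS G ι) :=
  MorphismProperty.of_isPullback (isPullback_legS G ι) inferInstance

theorem lfp_legS : LocallyOfFinitePresentation (legS G ι) :=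
  MorphismProperty.of_isPullback (isPullback_legS G ι) inferInstance

theorem qs_legS : QuasiSeparated (legS G ι) :=
  MorphismProperty.of_isPullback (isPullback_legS G ι) inferInstance

/-- The induced groupoid is flat and finitely presented. -/
theorem induced_props {S0 : S.Opens} (hS0 : IsAffineOpen S0) (h : Set.range ι ⊆ G.pU ⁻¹ᵁ S0) :
    Flat (legT G ι) ∧ LocallyOfFinitePresentation (legT G ι) ∧ QuasiCompact (legT G ι) ∧
      QuasiSeparated (legT G ι) ∧ Flat (legS G ι) ∧ LocallyOfFinitePresentation (legS G ι) ∧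
      QuasiCompact (legS G ι) ∧ QuasiSeparated (legS G ι) := by
  have := flat_legS G ι
  have := lfp_legS G ι
  have := quasiCompact_legS G ι hS0 h
  have := qs_legS G ι
  rw [← indInv_legS G ι]
  exact ⟨inferInstance, inferInstance, inferInstance, inferInstance, inferInstance, inferInstance,
    inferInstance, inferInstance⟩

end Props

end Groth.Agent.GrpdLib.Slice16047
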