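import Groth.Agent.GrpdLib.Slice16047.Induced

/-!
# The slice presents the quotient of its saturation
-/

set_option autoImplicit false
set_option backward.isDefEq.respectTransparency false
set_option backward.isDefEq.respectTransparency.types false

universe u

open CategoryTheory Limits AlgebraicGeometry TopologicalSpace

noncomputable section

namespace Groth.Agent.GrpdLib.Slice16047

variable {S : Scheme.{u}} (G : Grpd.GroupoidScheme S) {Z : Scheme.{u}} (ι : Z ⟶ G.U)
  [Flat (hOf G ι)] [LocallyOfFinitePresentation (hOf G ι)]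

/-- The saturation of the slice. -/
def satOpen : G.U.Opens := ⟨Set.range (hOf G ι), (hOf G ι).isOpenMap.isOpen_range⟩

lemma mem_satOpen {u : G.U} :
    u ∈ satOpen G ι ↔ ∃ z r, G.t r = ι z ∧ G.s r = u := by
  constructor
  · rintro ⟨p, rfl⟩
    refine ⟨pullback.fst ι G.t p, pullback.snd ι G.t p, ?_, (Scheme.Hom.comp_apply _ _ p).symm⟩
    rw [← Scheme.Hom.comp_apply, ← Scheme.Hom.comp_apply, pullback.condition]
  · rintro ⟨z, r, ht, rfl⟩
    obtain ⟨p, -, hp⟩ := Scheme.Pullback.exists_preimage_pullback (f := ι) (g := G.t) z r ht.symm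
    exact ⟨p, by rw [Scheme.Hom.comp_apply, hp]⟩

lemma sat_eq : G.s ⁻¹ᵁ satOpen G ι = G.t ⁻¹ᵁ satOpen G ι := by
  ext r
  show G.s r ∈ satOpen G ι ↔ G.t r ∈ satOpen G ι
  rw [mem_satOpen, mem_satOpen]
  constructor
  · rintro ⟨z, r₁, ht, hs⟩
    obtain ⟨r', h₁, h₂⟩ := exists_comp_point G (r₁ := r₁) (r₂ := G.i r) (hs.trans (t_i_apply G r).symm)
    exact ⟨z, r', h₁.trans ht, h₂.trans (s_i_apply G r)⟩
  · rintro ⟨z, r₁, ht, hs⟩
    obtain ⟨r', h₁, h₂⟩ := exists_comp_point G (r₁ := r₁) (r₂ := r) hs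
    exact ⟨z, r', h₁.trans ht, h₂⟩

/-- The slice in its saturation. -/
def toSat : Z ⟶ (satOpen G ι : Scheme.{u}) :=
  IsOpenImmersion.lift (satOpen G ι).ι ι (by
    rw [Scheme.Opens.range_ι]
    rintro _ ⟨z, rfl⟩
    exact (mem_satOpen G ι).mpr ⟨z, G.e (ι z), t_e_apply G _, s_e_apply G _⟩)

@[reassoc (attr := simp)] lemma toSat_ι : toSat G ι ≫ (satOpen G ι).ι = ι :=
  IsOpenImmersion.lift_fac _ _ _

/-- The arrows from the slice, onto the saturation. -/
def hSat : pullback ι G.t ⟶ (satOpen G ι : Scheme.{u}) :=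
  IsOpenImmersion.lift (satOpen G ι).ι (hOf G ι) (by
    rw [Scheme.Opens.range_ι]
    exact le_rfl)

@[reassoc (attr := simp)] lemma hSat_ι : hSat G ι ≫ (satOpen G ι).ι = hOf G ι :=
  IsOpenImmersion.lift_fac _ _ _

instance flat_hSat : Flat (hSat G ι) :=
  MorphismProperty.of_isPullback (isPullback_factor (hSat_ι G ι)) ‹Flat (hOf G ι)›

instance lfp_hSat : LocallyOfFinitePresentation (hSat G ι) :=
  MorphismProperty.of_isPullback (isPullback_factor (hSat_ι G ι))
    ‹LocallyOfFinitePresentation (hOf G ι)›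

instance surjective_hSat : Surjective (hSat G ι) := by
  refine ⟨fun v => ?_⟩
  obtain ⟨p, hp⟩ := v.2
  refine ⟨p, (satOpen G ι).ι.isOpenEmbedding.injective ?_⟩
  rw [← Scheme.Hom.comp_apply, hSat_ι, hp]
  rfl

/-- The source on the saturated arrows. -/
abbrev sSat := G.s ∣_ satOpen G ι

/-- The target on the saturated arrows. -/
abbrev tSat := (G.R.isoOfEq (sat_eq G ι)).hom ≫ (G.t ∣_ satOpen G ι)

lemma sSat_ι : sSat G ι ≫ (satOpen G ι).ι = (G.s ⁻¹ᵁ satOpen G ι).ι ≫ G.s := morphismRestrict_ι _ _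

lemma tSat_ι : tSat G ι ≫ (satOpen G ι).ι = (G.s ⁻¹ᵁ satOpen G ι).ι ≫ G.t := by
  simp [tSat]

/-- An arrow out of a point of the saturation. -/
def arrow {T : Scheme.{u}} (r : T ⟶ G.R) (a : T ⟶ (satOpen G ι : Scheme.{u}))
    (h : r ≫ G.s = a ≫ (satOpen G ι).ι) : T ⟶ (G.s ⁻¹ᵁ satOpen G ι : Scheme.{u}) :=
  IsOpenImmersion.lift (G.s ⁻¹ᵁ satOpen G ι).ι r (by
    rw [Scheme.Opens.range_ι]
    rintro _ ⟨p, rfl⟩
    show G.s (r p) ∈ satOpen G ι
    rw [← Scheme.Hom.comp_apply, h, Scheme.Hom.comp_apply]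
    exact (a p).2)

lemma arrow_ι {T : Scheme.{u}} (r : T ⟶ G.R) (a : T ⟶ (satOpen G ι : Scheme.{u})) (h) :
    arrow G ι r a h ≫ (G.s ⁻¹ᵁ satOpen G ι).ι = r :=
  IsOpenImmersion.lift_fac _ _ _

/-- Morphisms related by an arrow become equal in the quotient. -/
theorem quot_rel {T : Scheme.{u}} (r : T ⟶ G.R) (a b : T ⟶ (satOpen G ι : Scheme.{u}))
    (hs : r ≫ G.s = a ≫ (satOpen G ι).ι) (ht : r ≫ G.t = b ≫ (satOpen G ι).ι) :
    toSh.map a ≫ coequalizer.π (toSh.map (sSat G ι)) (toSh.map (tSat G ι)) =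
      toSh.map b ≫ coequalizer.π (toSh.map (sSat G ι)) (toSh.map (tSat G ι)) := by
  have e1 : arrow G ι r a hs ≫ sSat G ι = a := by
    rw [← cancel_mono (satOpen G ι).ι, Category.assoc, sSat_ι, reassoc_of% (arrow_ι G ι r a hs), hs]
  have e2 : arrow G ι r a hs ≫ tSat G ι = b := by
    rw [← cancel_mono (satOpen G ι).ι, Category.assoc, tSat_ι, reassoc_of% (arrow_ι G ι r a hs), ht]
  rw [← e1, ← e2, toSh.map_comp (arrow G ι r a hs) (sSat G ι),
    toSh.map_comp (arrow G ι r a hs) (tSat G ι), Category.assoc, Category.assoc, coequalizer.condition]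

lemma toSat_w :
    toSh.map (legT G ι) ≫
        (toSh.map (toSat G ι) ≫ coequalizer.π (toSh.map (sSat G ι)) (toSh.map (tSat G ι))) =
      toSh.map (legS G ι) ≫
        (toSh.map (toSat G ι) ≫ coequalizer.π (toSh.map (sSat G ι)) (toSh.map (tSat G ι))) := by
  rw [← Category.assoc, ← Category.assoc, ← Functor.map_comp, ← Functor.map_comp]
  exact (quot_rel G ι (pullback.snd (prodMap G ι) G.j) _ _
    (by rw [Category.assoc, toSat_ι]; exact arr_s G ι)
    (by rw [Category.assoc, toSat_ι]; exact arr_t G ι)).symm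

/-- The slice presents the quotient. -/
theorem isColimit_toSat [Flat G.t] :
    Nonempty (IsColimit (Cofork.ofπ
      (toSh.map (toSat G ι) ≫ coequalizer.π (toSh.map (sSat G ι)) (toSh.map (tSat G ι)))
      (toSat_w G ι))) := by
  have key : ∀ c : Cofork (toSh.map (legT G ι)) (toSh.map (legS G ι)),
      ∃ l : coequalizer (toSh.map (sSat G ι)) (toSh.map (tSat G ι)) ⟶ c.pt,
        (toSh.map (toSat G ι) ≫ coequalizer.π (toSh.map (sSat G ι)) (toSh.map (tSat G ι))) ≫ l =
          c.π ∧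
        ∀ m, (toSh.map (toSat G ι) ≫ coequalizer.π (toSh.map (sSat G ι)) (toSh.map (tSat G ι))) ≫ m =
          c.π → m = l := by
    intro c
    let pz := pullback.fst ι G.t
    let pr := pullback.snd ι G.t
    -- descend to the saturation
    let p₁ := pullback.fst (hSat G ι) (hSat G ι)
    let p₂ := pullback.snd (hSat G ι) (hSat G ι)
    have hp : (p₁ ≫ pr) ≫ G.s = (p₂ ≫ pr) ≫ G.s := by
      have := congrArg (· ≫ (satOpen G ι).ι) (pullback.condition (f := hSat G ι) (g := hSat G ι))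
      simpa [pr, p₁, p₂, hOf] using this
    let ψ := indLift G ι (p₁ ≫ pz) (p₂ ≫ pz)
      (comp G (p₁ ≫ pr) ((p₂ ≫ pr) ≫ G.i) (by simpa using hp))
      (by rw [comp_t]; simp [pz, pr, pullback.condition])
      (by rw [comp_s]; simp [pz, pr, pullback.condition])
    have hψ1 : ψ ≫ legT G ι = p₁ ≫ pz := indLift_legT G ι _ _ _ _ _
    have hψ2 : ψ ≫ legS G ι = p₂ ≫ pz := indLift_legS G ι _ _ _ _ _
    have hk : toSh.map p₁ ≫ (toSh.map pz ≫ c.π) = toSh.map p₂ ≫ (toSh.map pz ≫ c.π) := by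
      rw [← Category.assoc, ← Category.assoc, ← toSh.map_comp p₁ pz, ← toSh.map_comp p₂ pz, ← hψ1,
        ← hψ2, toSh.map_comp ψ (legT G ι), toSh.map_comp ψ (legS G ι), Category.assoc, Category.assoc,
        c.condition]
    obtain ⟨l, hl⟩ := exists_toSh_desc (hSat G ι) (toSh.map pz ≫ c.π) hk
    -- it is invariant
    let q₁ := pullback.fst (hSat G ι) (tSat G ι)
    let q₂ := pullback.snd (hSat G ι) (tSat G ι)
    have hq : (q₁ ≫ pr) ≫ G.s = (q₂ ≫ (G.s ⁻¹ᵁ satOpen G ι).ι) ≫ G.t := by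
      have := congrArg (· ≫ (satOpen G ι).ι) (pullback.condition (f := hSat G ι) (g := tSat G ι))
      simpa [pr, q₁, q₂, hOf] using this
    let mu := pullback.lift (f := ι) (g := G.t) (q₁ ≫ pz) (comp G (q₁ ≫ pr) (q₂ ≫ (G.s ⁻¹ᵁ satOpen G ι).ι) hq)
      (by rw [comp_t]; simp [pz, pr, pullback.condition])
    have hmu : mu ≫ hSat G ι = q₂ ≫ sSat G ι := by
      rw [← cancel_mono (satOpen G ι).ι, Category.assoc, hSat_ι, Category.assoc, sSat_ι,
        ← Category.assoc mu, pullback.lift_snd, comp_s, Category.assoc]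
    have hinv : toSh.map (sSat G ι) ≫ l = toSh.map (tSat G ι) ≫ l := by
      have := epi_toSh q₂
      rw [← cancel_epi (toSh.map q₂), ← Category.assoc, ← toSh.map_comp q₂ (sSat G ι), ← hmu,
        toSh.map_comp mu (hSat G ι), Category.assoc, hl, ← Category.assoc, ← toSh.map_comp mu pz,
        show mu ≫ pz = q₁ ≫ pz from pullback.lift_fst _ _ _, toSh.map_comp q₁ pz, Category.assoc, ← hl,
        ← Category.assoc, ← toSh.map_comp q₁ (hSat G ι), show q₁ ≫ hSat G ι = q₂ ≫ tSat G ι from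
          pullback.condition, toSh.map_comp q₂ (tSat G ι), Category.assoc]
    refine ⟨coequalizer.desc l hinv, ?_, fun m hm => ?_⟩
    · rw [Category.assoc, coequalizer.π_desc]
      have hsec : idSec G ι ≫ hSat G ι = toSat G ι := by
        rw [← cancel_mono (satOpen G ι).ι, Category.assoc, hSat_ι, toSat_ι, idSec_h]
      rw [← hsec, toSh.map_comp (idSec G ι) (hSat G ι), Category.assoc, hl, ← Category.assoc,
        ← toSh.map_comp (idSec G ι) pz,
        show idSec G ι ≫ pz = 𝟙 _ from pullback.lift_fst _ _ _, toSh.map_id, Category.id_comp]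
    · refine coequalizer.hom_ext ?_
      rw [coequalizer.π_desc]
      have := epi_toSh (hSat G ι)
      rw [← cancel_epi (toSh.map (hSat G ι)), hl, ← hm, ← Category.assoc, ← Category.assoc,
        ← Category.assoc]
      congr 1
      rw [← toSh.map_comp pz (toSat G ι)]
      exact quot_rel G ι pr (hSat G ι) (pz ≫ toSat G ι) (by rw [hSat_ι])
        (by rw [Category.assoc, toSat_ι]; exact pullback.condition.symm)
  choose l hl hu using key
  exact ⟨Cofork.IsColimit.mk _ l hl (fun c m hm => hu c m hm)⟩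

/-- Points of the saturation are fppf-locally related to points of the slice. -/
theorem exists_local_rel {T : Scheme.{u}} (v : T ⟶ G.U) (hv : Set.range v ⊆ satOpen G ι) :
    ∃ (T' : Scheme.{u}) (c : T' ⟶ T) (r : T' ⟶ G.R) (z : T' ⟶ Z),
      Flat c ∧ LocallyOfFinitePresentation c ∧ Surjective c ∧ r ≫ G.t = c ≫ v ∧ z ≫ ι = r ≫ G.s := by
  refine ⟨pullback v (hOf G ι), pullback.fst _ _,
    pullback.snd v (hOf G ι) ≫ pullback.snd ι G.t ≫ G.i,
    pullback.snd v (hOf G ι) ≫ pullback.fst ι G.t, inferInstance, inferInstance, ⟨fun a => ?_⟩,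
    ?_, ?_⟩
  · obtain ⟨p, hp⟩ := hv ⟨a, rfl⟩
    obtain ⟨q, hq, -⟩ := Scheme.Pullback.exists_preimage_pullback (f := v) (g := hOf G ι) a p hp.symm
    exact ⟨q, hq⟩
  · simp only [Category.assoc, i_comp_t]
    exact pullback.condition.symm
  · simp only [Category.assoc, i_comp_s, pullback.condition]

end Groth.Agent.GrpdLib.Slice16047
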