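import Mathlib.RingTheory.Jacobson.Ring
import Mathlib.RingTheory.Ideal.AssociatedPrime.Finiteness
import Mathlib.RingTheory.Regular.IsSMulRegular
import Mathlib.RingTheory.LocalRing.ResidueField.Fiber
import Mathlib.RingTheory.Regular.RegularSequence
import Mathlib.RingTheory.Algebraic.Integral
import Mathlib.RingTheory.FiniteStability

/-!
# Cutting the fibres of an orbit down to finitely many points by a regular sequence
-/

set_option autoImplicit false
set_option backward.isDefEq.respectTransparency false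
set_option backward.isDefEq.respectTransparency.types false

universe u

open TensorProduct RingTheory.Sequence

noncomputable section

namespace Groth.Agent.GrpdLib.Slice16047

section Abstract

variable {A : Type u} [CommRing A] {J : Type} [Finite J] (F : J → Type u) [∀ j, CommRing (F j)]
  (τ : ∀ j, A →+* F j)

/-- The images in `A` of the primes containing the images of a list. -/
def cutImages (fs : List A) : Set (Ideal A) :=
  {q | ∃ j, ∃ Q : Ideal (F j), Q.IsPrime ∧ (Ideal.ofList fs).map (τ j) ≤ Q ∧ Q.comap (τ j) = q}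

/-- The images in `A` of the maximal ideals containing the images of a list. -/
def cutMaxImages (fs : List A) : Set (Ideal A) :=
  {q | ∃ j, ∃ Q : Ideal (F j), Q.IsMaximal ∧ (Ideal.ofList fs).map (τ j) ≤ Q ∧ Q.comap (τ j) = q}

omit [Finite J] in
theorem cutImages_finite [∀ j, IsJacobsonRing (F j)] {fs : List A}
    (h : (cutMaxImages F τ fs).Finite) : (cutImages F τ fs).Finite := by
  classical
  refine h.subset ?_
  rintro q ⟨j, Q, hQ, hle, rfl⟩
  let T := h.toFinset.filter (fun w => Q.comap (τ j) ≤ w)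
  have hmem : ∀ M : Ideal (F j), M.IsMaximal → Q ≤ M → M.comap (τ j) ∈ T := fun M hM hQM =>
    Finset.mem_filter.mpr ⟨h.mem_toFinset.mpr ⟨j, M, hM, hle.trans hQM, rfl⟩, Ideal.comap_mono hQM⟩
  have hT : T.inf id ≤ Q.comap (τ j) := by
    intro a ha
    rw [Ideal.mem_comap, ← IsJacobsonRing.out' Q hQ.isRadical, Ideal.jacobson, Ideal.mem_sInf]
    rintro M ⟨hQM, hM⟩
    exact (Finset.inf_le (f := id) (hmem M hM hQM) : T.inf id ≤ _) ha
  obtain ⟨w, hw, hwle⟩ := (Ideal.IsPrime.inf_le' (hQ.comap (τ j))).mp hT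
  obtain ⟨hw1, hw2⟩ := Finset.mem_filter.mp hw
  exact le_antisymm hwle hw2 ▸ h.mem_toFinset.mp hw1

/-- The images of a list form a regular sequence on every factor. -/
def CutRegular (fs : List A) : Prop :=
  ∀ (l₁ : List A) (h : A) (l₂ : List A), fs = l₁ ++ h :: l₂ → ∀ (j : J) (m : F j),
    τ j h * m ∈ (Ideal.ofList l₁).map (τ j) → m ∈ (Ideal.ofList l₁).map (τ j)

theorem exists_cut_list [∀ j, IsNoetherianRing (F j)] [∀ j, IsJacobsonRing (F j)]
    (hanti : ∀ i (M : Ideal (F i)), M.IsMaximal → ∀ j (Q : Ideal (F j)), Q.IsPrime →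
      M.comap (τ i) ≤ Q.comap (τ j) → M.comap (τ i) = Q.comap (τ j))
    (hne : ∃ j, Nontrivial (F j)) :
    ∃ fs : List A, CutRegular F τ fs ∧ (cutImages F τ fs).Finite ∧
      (cutImages F τ fs).Nonempty := by
  classical
  have : IsNoetherianRing (∀ j, F j) := inferInstance
  suffices ∀ (I : Ideal (∀ j, F j)) (l : List A), (Ideal.ofList l).map (RingHom.pi τ) = I →
      CutRegular F τ l → (cutMaxImages F τ l).Nonempty →
      ∃ fs : List A, CutRegular F τ fs ∧ (cutImages F τ fs).Finite ∧
        (cutImages F τ fs).Nonempty by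
    obtain ⟨j, hj⟩ := hne
    obtain ⟨M, hM⟩ := Ideal.exists_maximal (F j)
    exact this _ [] rfl (fun l₁ h l₂ e => absurd e (by simp))
      ⟨_, j, M, hM, by simp, rfl⟩
  intro I
  induction I using IsWellFounded.induction (α := Ideal (∀ j, F j)) (· > ·) with
  | _ I ih =>
  intro l hl hreg hnon
  by_cases hfin : (cutMaxImages F τ l).Finite
  · obtain ⟨q, j, M, hM, hle, rfl⟩ := hnon
    exact ⟨l, hreg, cutImages_finite F τ hfin, _, j, M, hM.isPrime, hle, rfl⟩
  let E : Set (Ideal A) := ⋃ j, (fun P : Ideal (F j) => P.comap (τ j)) ''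
    associatedPrimes (F j) (F j ⧸ (Ideal.ofList l).map (τ j))
  have hE : E.Finite := Set.finite_iUnion fun j => (associatedPrimes.finite _ _).image _
  obtain ⟨q, hq, hqE⟩ := (Set.Infinite.sdiff hfin hE).nonempty
  obtain ⟨i, M, hM, hleM, rfl⟩ := hq
  have hEp : ∀ e ∈ hE.toFinset, e.IsPrime := fun e he => by
    obtain ⟨j, P, hP, rfl⟩ := Set.mem_iUnion.mp (hE.mem_toFinset.mp he)
    exact hP.isPrime.comap (τ j)
  obtain ⟨f, hfq, hfE⟩ : ∃ f ∈ M.comap (τ i), f ∉ ⋃ e ∈ (↑hE.toFinset : Set (Ideal A)), (e : Set A) := by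
    by_contra hcon
    push Not at hcon
    obtain ⟨e, he, hle⟩ := (Ideal.subset_union_prime (f := id) ⊥ ⊥ (fun e he _ _ => hEp e he)).mp
      (fun a ha => hcon a ha)
    obtain ⟨j, P, hP, rfl⟩ := Set.mem_iUnion.mp (hE.mem_toFinset.mp he)
    exact hqE (hanti i M hM j P hP.isPrime hle ▸ Set.mem_iUnion.mpr ⟨j, P, hP, rfl⟩)
  have hf : ∀ j (m : F j), τ j f * m ∈ (Ideal.ofList l).map (τ j) →
      m ∈ (Ideal.ofList l).map (τ j) := by
    intro j m hm
    have hreg : IsSMulRegular (F j ⧸ (Ideal.ofList l).map (τ j)) (τ j f) := by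
      by_contra hn
      have : τ j f ∈ ⋃ P ∈ associatedPrimes (F j) (F j ⧸ (Ideal.ofList l).map (τ j)), (P : Set (F j)) := by
        rw [biUnion_associatedPrimes_eq_compl_regular]
        exact hn
      simp only [Set.mem_iUnion] at this
      obtain ⟨P, hP, hfP⟩ := this
      exact hfE (Set.mem_biUnion (hE.mem_toFinset.mpr (Set.mem_iUnion.mpr ⟨j, P, hP, rfl⟩)) hfP)
    refine Ideal.Quotient.eq_zero_iff_mem.mp (hreg ?_)
    show τ j f • Ideal.Quotient.mk _ m = τ j f • (0 : F j ⧸ (Ideal.ofList l).map (τ j))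
    rw [smul_zero]
    exact Ideal.Quotient.eq_zero_iff_mem.mpr hm
  have hmapl : ∀ j, ((Ideal.ofList l).map (RingHom.pi τ)).map (Pi.evalRingHom F j) =
      (Ideal.ofList l).map (τ j) := fun j => by
    rw [Ideal.map_map]; rfl
  refine ih ((Ideal.ofList (l ++ [f])).map (RingHom.pi τ)) ?_ (l ++ [f]) rfl ?_ ?_
  · rw [gt_iff_lt, Ideal.ofList_append, Ideal.map_sup, hl]
    refine left_lt_sup.mpr fun hle => hM.ne_top ?_
    have h1 : τ i f ∈ (Ideal.ofList l).map (τ i) := by
      rw [← hmapl i, hl]
      exact Ideal.mem_map_of_mem (Pi.evalRingHom F i)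
        (hle (Ideal.mem_map_of_mem (RingHom.pi τ) (Ideal.subset_span (by simp))))
    exact (Ideal.eq_top_iff_one _).mpr (hleM (hf i 1 (by rwa [mul_one])))
  · intro l₁ h l₂ e j m hm
    rcases List.eq_nil_or_concat l₂ with rfl | ⟨l₃, b, rfl⟩
    · obtain ⟨rfl, hh⟩ := List.append_inj' e rfl
      obtain rfl : f = h := by simpa using hh
      exact hf j m hm
    · refine hreg l₁ h l₃ ?_ j m hm
      have : l ++ [f] = (l₁ ++ h :: l₃) ++ [b] := by rw [e]; simp
      exact (List.append_inj' this rfl).1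
  · refine ⟨_, i, M, hM, ?_, rfl⟩
    rw [Ideal.ofList_append, Ideal.map_sup, sup_le_iff]
    refine ⟨hleM, ?_⟩
    rw [Ideal.ofList_singleton, Ideal.map_le_iff_le_comap, Ideal.span_singleton_le_iff_mem]
    exact hfq

end Abstract

section Fibre

variable {R0 A : Type u} [CommRing R0] [CommRing A] [Algebra R0 A] [Algebra.FiniteType R0 A]
  (P : Ideal A) [P.IsPrime]

/-- The residue map of a prime over the residue field of its trace. -/
abbrev resMap : (P.comap (algebraMap R0 A)).ResidueField →+* P.ResidueField :=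
  Ideal.ResidueField.lift _ (algebraMap R0 P.ResidueField)
    (fun a ha => by
      rw [RingHom.mem_ker, IsScalarTower.algebraMap_apply R0 A P.ResidueField]
      exact Ideal.algebraMap_residueField_eq_zero.mpr ha)
    (fun a ha => by
      rw [Submonoid.mem_comap, IsUnit.mem_submonoid_iff, isUnit_iff_ne_zero,
        IsScalarTower.algebraMap_apply R0 A P.ResidueField, ne_eq,
        Ideal.algebraMap_residueField_eq_zero]
      exact ha)

omit [Algebra.FiniteType R0 A] in
theorem resMap_algebraMap (a : R0) :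
    resMap (R0 := R0) P (algebraMap R0 _ a) = algebraMap R0 P.ResidueField a := by
  simp [resMap]

/-- A prime which is maximal in its fibre has residue field of finite type over the base field. -/
theorem finiteType_resMap
    (hP : ∀ q : Ideal A, q.IsPrime → P ≤ q →
      q.comap (algebraMap R0 A) = P.comap (algebraMap R0 A) → q = P) :
    (resMap (R0 := R0) P).FiniteType := by
  let p := P.comap (algebraMap R0 A)
  algebraize [resMap (R0 := R0) P]
  have : IsScalarTower R0 p.ResidueField P.ResidueField := IsScalarTower.of_algebraMap_eq fun a =>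
    (resMap_algebraMap P a).symm
  let g : p.Fiber A →ₐ[p.ResidueField] P.ResidueField :=
    Algebra.TensorProduct.lift (Algebra.ofId p.ResidueField P.ResidueField)
      (IsScalarTower.toAlgHom R0 A P.ResidueField) (fun _ _ => Commute.all _ _)
  have hg : ∀ a : A, g (1 ⊗ₜ a) = algebraMap A P.ResidueField a := fun a => by simp [g]
  have hscal : ∀ r ∉ p, IsUnit (algebraMap R0 (p.Fiber A) r) := fun r hr => by
    rw [IsScalarTower.algebraMap_apply R0 p.ResidueField (p.Fiber A)]
    refine RingHom.isUnit_map _ (isUnit_iff_ne_zero.mpr ?_)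
    rw [ne_eq, Ideal.algebraMap_residueField_eq_zero]
    exact hr
  have hmax : (RingHom.ker g).IsMaximal := by
    have : (RingHom.ker g).IsPrime := RingHom.ker_isPrime g
    obtain ⟨Q, hQ, hle⟩ := Ideal.exists_le_maximal _ (Ideal.IsPrime.ne_top this)
    suffices Q ≤ RingHom.ker g by rwa [le_antisymm hle this]
    let ψ : A →+* p.Fiber A := Algebra.TensorProduct.includeRight.toRingHom
    have hψ : ∀ a, ψ a = 1 ⊗ₜ a := fun a => rfl
    have hq : Q.comap ψ = P := by
      refine hP _ (hQ.isPrime.comap ψ) (fun a ha => hle ?_) ?_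
      · rw [RingHom.mem_ker, hψ, hg, Ideal.algebraMap_residueField_eq_zero]
        exact ha
      · ext r
        have e : ψ (algebraMap R0 A r) = algebraMap R0 (p.Fiber A) r :=
          (Algebra.TensorProduct.includeRight : A →ₐ[R0] p.Fiber A).commutes r
        rw [Ideal.mem_comap, Ideal.mem_comap, e]
        refine ⟨fun h => ?_, fun h => ?_⟩
        · by_contra hr
          exact hQ.ne_top (Ideal.eq_top_of_isUnit_mem _ h (hscal r hr))
        · rw [IsScalarTower.algebraMap_apply R0 p.ResidueField (p.Fiber A),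
            Ideal.algebraMap_residueField_eq_zero.mpr (show r ∈ p from h), map_zero]
          exact zero_mem _
    intro x hx
    obtain ⟨r, hr, a, hra⟩ := Ideal.Fiber.exists_smul_eq_one_tmul p x
    have ha : a ∈ P := by
      rw [← hq, Ideal.mem_comap, hψ, ← hra]
      exact Submodule.smul_of_tower_mem Q r hx
    have : g (r • x) = 0 := by
      rw [hra, hg, Ideal.algebraMap_residueField_eq_zero]; exact ha
    rw [Algebra.smul_def, map_mul, mul_eq_zero] at this
    exact this.resolve_left ((hscal r hr).map g).ne_zero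
  have hsurj : Function.Surjective g := by
    intro z
    obtain ⟨a, d, hd, rfl⟩ : ∃ a d : A, algebraMap A P.ResidueField d ≠ 0 ∧
        algebraMap A P.ResidueField a / algebraMap A P.ResidueField d = z := by
      obtain ⟨⟨a, d⟩, h⟩ := IsLocalization.surj (nonZeroDivisors (A ⧸ P)) z
      obtain ⟨a, rfl⟩ := Ideal.Quotient.mk_surjective a
      obtain ⟨d, hd⟩ := Ideal.Quotient.mk_surjective (d : A ⧸ P)
      have hd0 : algebraMap A P.ResidueField d ≠ 0 := by
        rw [ne_eq, Ideal.algebraMap_residueField_eq_zero, ← Ideal.Quotient.eq_zero_iff_mem, hd]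
        exact nonZeroDivisors.coe_ne_zero _
      refine ⟨a, d, hd0, (div_eq_iff hd0).mpr ?_⟩
      rw [← hd] at h
      exact h.symm
    obtain ⟨e, k, hk, hsum⟩ := hmax.exists_inv (x := 1 ⊗ₜ d) (by rw [RingHom.mem_ker, hg]; exact hd)
    refine ⟨(1 ⊗ₜ a) * e, ?_⟩
    have h1 := congrArg g hsum
    rw [map_add, map_mul, RingHom.mem_ker.mp hk, add_zero, map_one, hg] at h1
    rw [map_mul, hg, eq_div_iff hd, mul_assoc, h1, mul_one]
  have : Algebra.FiniteType p.ResidueField (p.Fiber A) :=
    inferInstanceAs (Algebra.FiniteType p.ResidueField (p.ResidueField ⊗[R0] A))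
  exact (RingHom.finiteType_algebraMap (A := p.ResidueField) (B := P.ResidueField)).mpr
    (Algebra.FiniteType.of_surjective g hsurj)

/-- The arrows from a point meet a neighbourhood in finitely many points after cutting by a list
which is regular on every fibre. -/
theorem exists_cut
    (hP : ∀ q : Ideal A, q.IsPrime → P ≤ q →
      q.comap (algebraMap R0 A) = P.comap (algebraMap R0 A) → q = P)
    {J : Type} [Finite J] (B : J → Type u) [∀ j, CommRing (B j)] (σ τ : ∀ j, A →+* B j)
    (hσ : ∀ j, (σ j).FiniteType)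
    (hστ : ∀ j, (σ j).comp (algebraMap R0 A) = (τ j).comp (algebraMap R0 A))
    (hne : ∃ j, ∃ Q : Ideal (B j), Q.IsPrime ∧ Q.comap (σ j) = P) :
    ∃ fs : List A,
      (∀ (l₁ : List A) (h : A) (l₂ : List A), fs = l₁ ++ h :: l₂ → ∀ (j : J) (Q : Ideal (B j)),
        Q.IsPrime → Q.comap (σ j) = P → ∀ m : B j,
        τ j h * m ∈ P.map (σ j) ⊔ (Ideal.ofList l₁).map (τ j) →
          ∃ d ∉ Q, d * m ∈ P.map (σ j) ⊔ (Ideal.ofList l₁).map (τ j)) ∧
      {q : Ideal A | ∃ j, ∃ Q : Ideal (B j), Q.IsPrime ∧ Q.comap (σ j) = P ∧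
        (Ideal.ofList fs).map (τ j) ≤ Q ∧ Q.comap (τ j) = q}.Finite ∧
      (∃ j, ∃ Q : Ideal (B j), Q.IsPrime ∧ Q.comap (σ j) = P ∧
        (Ideal.ofList fs).map (τ j) ≤ Q) := by
  classical
  letI algB : ∀ j, Algebra A (B j) := fun j => (σ j).toAlgebra
  have hσ' : ∀ j a, algebraMap A (B j) a = σ j a := fun j a => rfl
  have : ∀ j, Algebra.FiniteType A (B j) := hσ
  let F : J → Type u := fun j => P.ResidueField ⊗[A] B j
  letI : ∀ j, CommRing (F j) := fun j => inferInstanceAs (CommRing (P.ResidueField ⊗[A] B j))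
  let φ : ∀ j, B j →+* F j := fun j => Algebra.TensorProduct.includeRight.toRingHom
  have hFft : ∀ j, Algebra.FiniteType P.ResidueField (P.ResidueField ⊗[A] B j) :=
    fun j => inferInstance
  have : ∀ j, IsNoetherianRing (F j) := fun j =>
    Algebra.FiniteType.isNoetherianRing P.ResidueField (P.ResidueField ⊗[A] B j)
  have : ∀ j, IsJacobsonRing (F j) := fun j =>
    isJacobsonRing_of_finiteType (A := P.ResidueField) (B := P.ResidueField ⊗[A] B j)
  have hφσ : ∀ j a, φ j (σ j a) = algebraMap P.ResidueField (P.ResidueField ⊗[A] B j)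
      (algebraMap A P.ResidueField a) := fun j a =>
    ((Algebra.TensorProduct.includeRight : B j →ₐ[A] P.ResidueField ⊗[A] B j).commutes a).trans
      (IsScalarTower.algebraMap_apply A P.ResidueField _ a)
  have hover : ∀ j (Q : Ideal (F j)), Q.IsPrime → (Q.comap (φ j)).comap (σ j) = P := by
    intro j Q hQ
    ext a
    rw [Ideal.mem_comap, Ideal.mem_comap, hφσ]
    refine ⟨fun h => ?_, fun h => ?_⟩
    · by_contra ha
      exact hQ.ne_top (Ideal.eq_top_of_isUnit_mem _ h (RingHom.isUnit_map _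
        (isUnit_iff_ne_zero.mpr (Ideal.algebraMap_residueField_eq_zero.not.mpr ha))))
    · rw [Ideal.algebraMap_residueField_eq_zero.mpr h, map_zero]
      exact zero_mem _
  have hlift : ∀ j (Q : Ideal (B j)), Q.IsPrime → Q.comap (σ j) = P →
      ∃ Q' : Ideal (F j), Q'.IsPrime ∧ Q'.comap (φ j) = Q := by
    intro j Q hQ hQP
    let f : P.ResidueField →ₐ[A] Q.ResidueField :=
      Ideal.ResidueField.liftₐ P (Algebra.ofId A Q.ResidueField)
        (fun a ha => by
          rw [RingHom.mem_ker]
          show algebraMap A Q.ResidueField a = 0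
          rw [IsScalarTower.algebraMap_apply A (B j) Q.ResidueField,
            Ideal.algebraMap_residueField_eq_zero]
          exact hQP.ge ha)
        (fun a ha => by
          rw [Submonoid.mem_comap, IsUnit.mem_submonoid_iff, isUnit_iff_ne_zero]
          show algebraMap A Q.ResidueField a ≠ 0
          rw [IsScalarTower.algebraMap_apply A (B j) Q.ResidueField, ne_eq,
            Ideal.algebraMap_residueField_eq_zero]
          exact fun h => ha (hQP.le h))
    let g : P.ResidueField ⊗[A] B j →ₐ[A] Q.ResidueField :=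
      Algebra.TensorProduct.lift f (IsScalarTower.toAlgHom A (B j) Q.ResidueField)
        (fun _ _ => Commute.all _ _)
    refine ⟨RingHom.ker g.toRingHom, RingHom.ker_isPrime _, ?_⟩
    ext b
    show g (1 ⊗ₜ b) = 0 ↔ b ∈ Q
    simp [g, Ideal.algebraMap_residueField_eq_zero]
  have hne' : ∃ j, Nontrivial (F j) := by
    obtain ⟨j, Q, hQ, hQP⟩ := hne
    obtain ⟨Q', hQ', -⟩ := hlift j Q hQ hQP
    exact ⟨j, ⟨⟨0, 1, fun h => hQ'.ne_top ((Ideal.eq_top_iff_one Q').mpr (h ▸ Q'.zero_mem))⟩⟩⟩
  let τ' : ∀ j, A →+* F j := fun j => (φ j).comp (τ j)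
  have hanti : ∀ i (M : Ideal (F i)), M.IsMaximal → ∀ j (Q : Ideal (F j)), Q.IsPrime →
      M.comap (τ' i) ≤ Q.comap (τ' j) → M.comap (τ' i) = Q.comap (τ' j) := by
    intro i M hM j Q hQ hle
    have hR : ∀ j (Q : Ideal (F j)), Q.IsPrime → (Q.comap (τ' j)).comap (algebraMap R0 A) =
        P.comap (algebraMap R0 A) := by
      intro j Q hQ
      refine Eq.trans ?_ (congrArg (Ideal.comap (algebraMap R0 A)) (hover j Q hQ))
      rw [Ideal.comap_comap, Ideal.comap_comap, Ideal.comap_comap, RingHom.comp_assoc, hστ j]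
    let p := P.comap (algebraMap R0 A)
    let L := F i ⧸ M
    letI : Field L := Ideal.Quotient.field M
    let ρ : P.ResidueField →+* L := (Ideal.Quotient.mk M).comp
      (algebraMap P.ResidueField (P.ResidueField ⊗[A] B i))
    let ν : A →+* L := (Ideal.Quotient.mk M).comp (τ' i)
    letI : Algebra p.ResidueField L := (ρ.comp (resMap (R0 := R0) P)).toAlgebra
    have : Algebra.FiniteType p.ResidueField L := by
      rw [← RingHom.finiteType_algebraMap]
      exact RingHom.FiniteType.comp (RingHom.FiniteType.comp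
        (RingHom.FiniteType.of_surjective _ Ideal.Quotient.mk_surjective)
        ((RingHom.finiteType_algebraMap (A := P.ResidueField)
          (B := P.ResidueField ⊗[A] B i)).mpr (hFft i))) (finiteType_resMap P hP)
    have : Module.Finite p.ResidueField L := finite_of_finite_type_of_isJacobsonRing _ _
    have hν : ν.comp (algebraMap R0 A) =
        (algebraMap p.ResidueField L).comp (algebraMap R0 p.ResidueField) := by
      refine RingHom.ext fun r => ?_
      show Ideal.Quotient.mk M (φ i (τ i (algebraMap R0 A r))) =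
        ρ (resMap P (algebraMap R0 p.ResidueField r))
      rw [resMap_algebraMap, ← RingHom.comp_apply (τ i), ← hστ i, RingHom.comp_apply, hφσ,
        ← IsScalarTower.algebraMap_apply R0 A P.ResidueField]
      rfl
    letI : Algebra (R0 ⧸ p) L :=
      ((algebraMap p.ResidueField L).comp (algebraMap (R0 ⧸ p) p.ResidueField)).toAlgebra
    have : IsScalarTower (R0 ⧸ p) p.ResidueField L := IsScalarTower.of_algebraMap_eq fun _ => rfl
    refine le_antisymm hle fun a ha => ?_
    by_contra hna
    have hne0 : ν a ≠ 0 := fun h => hna (Ideal.mem_comap.mpr (Ideal.Quotient.eq_zero_iff_mem.mp h))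
    have halg : IsAlgebraic (R0 ⧸ p) (ν a) :=
      (IsFractionRing.isAlgebraic_iff (R0 ⧸ p) p.ResidueField L).mpr
        (Algebra.IsAlgebraic.isAlgebraic (ν a))
    obtain ⟨g, hg0, hg⟩ := halg.exists_nonzero_coeff_and_aeval_eq_zero
      (mem_nonZeroDivisors_of_ne_zero hne0)
    obtain ⟨g', rfl⟩ := Polynomial.map_surjective (Ideal.Quotient.mk p) Ideal.Quotient.mk_surjective g
    have hmem : Polynomial.aeval a g' ∈ M.comap (τ' i) := by
      refine Ideal.mem_comap.mpr (Ideal.Quotient.eq_zero_iff_mem.mp (?_ : ν (Polynomial.aeval a g') = 0))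
      rw [Polynomial.aeval_def, Polynomial.hom_eval₂, hν, ← hg, Polynomial.aeval_def,
        Polynomial.eval₂_map]
      congr 1
    have hdiv := map_dvd (Polynomial.aeval a) (Polynomial.X_dvd_sub_C (p := g'))
    rw [map_sub, Polynomial.aeval_X, Polynomial.aeval_C] at hdiv
    obtain ⟨c, hc⟩ := hdiv
    have h0 : algebraMap R0 A (g'.coeff 0) ∈ Q.comap (τ' j) := by
      have : algebraMap R0 A (g'.coeff 0) = Polynomial.aeval a g' - a * c := by rw [← hc]; abel
      rw [this]
      exact sub_mem (hle hmem) (Ideal.mul_mem_right _ _ ha)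
    refine hg0 ?_
    rw [Polynomial.coeff_map, Ideal.Quotient.eq_zero_iff_mem]
    exact (hR j Q hQ).le h0
  obtain ⟨fs, hreg, hfin, hnon⟩ := exists_cut_list F τ' hanti hne'
  have hmap : ∀ j l, (Ideal.ofList l).map (τ' j) = ((Ideal.ofList l).map (τ j)).map (φ j) :=
    fun j l => (Ideal.map_map _ _).symm
  refine ⟨fs, ?_, ?_, ?_⟩
  · intro l₁ h l₂ he j Q hQ hQP m hm
    set I := P.map (σ j) ⊔ (Ideal.ofList l₁).map (τ j)
    have hIle : I.map (φ j) ≤ (Ideal.ofList l₁).map (τ' j) := by
      rw [Ideal.map_sup, ← hmap, sup_le_iff]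
      refine ⟨?_, le_rfl⟩
      rw [Ideal.map_map, Ideal.map_le_iff_le_comap]
      intro a ha
      rw [Ideal.mem_comap, RingHom.comp_apply, hφσ,
        Ideal.algebraMap_residueField_eq_zero.mpr ha, map_zero]
      exact zero_mem _
    have hm' : φ j m ∈ (Ideal.ofList l₁).map (τ' j) := by
      refine hreg l₁ h l₂ he j _ ?_
      show φ j (τ j h) * φ j m ∈ _
      rw [← map_mul]
      exact hIle (Ideal.mem_map_of_mem _ hm)
    let S := Algebra.algebraMapSubmonoid (B j ⧸ I) P.primeCompl
    let C := Localization S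
    have hker : P ≤ RingHom.ker (Algebra.ofId A C) := fun a ha => by
      rw [RingHom.mem_ker]
      show algebraMap A C a = 0
      rw [IsScalarTower.algebraMap_apply A (B j ⧸ I) C, IsScalarTower.algebraMap_apply A (B j) (B j ⧸ I),
        hσ', Ideal.Quotient.algebraMap_eq, Ideal.Quotient.eq_zero_iff_mem.mpr
          (show σ j a ∈ I from Ideal.mem_sup_left (Ideal.mem_map_of_mem (σ j) ha)), map_zero]
    have hunit : P.primeCompl ≤ (IsUnit.submonoid C).comap (Algebra.ofId A C) := fun a ha => by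
      rw [Submonoid.mem_comap, IsUnit.mem_submonoid_iff]
      show IsUnit (algebraMap A C a)
      rw [IsScalarTower.algebraMap_apply A (B j ⧸ I) C]
      exact IsLocalization.map_units C (⟨_, Algebra.mem_algebraMapSubmonoid_of_mem ⟨a, ha⟩⟩ : S)
    let ψ : P.ResidueField ⊗[A] B j →ₐ[A] C :=
      Algebra.TensorProduct.lift (Ideal.ResidueField.liftₐ P (Algebra.ofId A C) hker hunit)
        (IsScalarTower.toAlgHom A (B j) C) (fun _ _ => Commute.all _ _)
    have hψ : ∀ b, ψ (φ j b) = algebraMap (B j) C b := fun b => by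
      show ψ (1 ⊗ₜ b) = _
      simp [ψ]
    have hzero : (Ideal.ofList l₁).map (τ' j) ≤ RingHom.ker ψ.toRingHom := by
      rw [hmap, Ideal.map_le_iff_le_comap]
      intro b hb
      rw [Ideal.mem_comap, RingHom.mem_ker]
      show ψ (φ j b) = 0
      rw [hψ, IsScalarTower.algebraMap_apply (B j) (B j ⧸ I) C, Ideal.Quotient.algebraMap_eq,
        Ideal.Quotient.eq_zero_iff_mem.mpr (show b ∈ I from Ideal.mem_sup_right hb), map_zero]
    have hm0 : algebraMap (B j ⧸ I) C (Ideal.Quotient.mk I m) = 0 := by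
      rw [← Ideal.Quotient.algebraMap_eq, ← IsScalarTower.algebraMap_apply, ← hψ]
      exact hzero hm'
    obtain ⟨⟨_, a, ha, rfl⟩, hc⟩ := (IsLocalization.map_eq_zero_iff S C _).mp hm0
    refine ⟨σ j a, fun h' => ha (hQP.le h'), Ideal.Quotient.eq_zero_iff_mem.mp ?_⟩
    rw [map_mul]
    exact hc
  · refine hfin.subset ?_
    rintro q ⟨j, Q, hQ, hQP, hle, rfl⟩
    obtain ⟨Q', hQ', rfl⟩ := hlift j Q hQ hQP
    exact ⟨j, Q', hQ', by rw [hmap]; exact Ideal.map_le_iff_le_comap.mpr hle, rfl⟩
  · obtain ⟨q, j, Q, hQ, hle, -⟩ := hnon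
    exact ⟨j, Q.comap (φ j), hQ.comap _, hover j Q hQ,
      Ideal.map_le_iff_le_comap.mp (hmap j fs ▸ hle)⟩

end Fibre

end Groth.Agent.GrpdLib.Slice16047
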