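import Groth.Agent.AlgSp.InfRing
import Mathlib.AlgebraicGeometry.Morphisms.Flat
import Mathlib.AlgebraicGeometry.Morphisms.FinitePresentation
import Mathlib.AlgebraicGeometry.Morphisms.OpenImmersion

/-!
# Flatness of a cut along an affine chart
-/

set_option autoImplicit false
set_option backward.isDefEq.respectTransparency false
set_option backward.isDefEq.respectTransparency.types false

universe u

open CategoryTheory Limits AlgebraicGeometry

noncomputable section

namespace Groth.Agent.GrpdLib.Slice16047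

/-- Flatness at a point can be checked on an open chart. -/
theorem flat_stalkMap_of_chart {X Y W : Scheme.{u}} (ψ : W ⟶ X) [IsOpenImmersion ψ] (h : X ⟶ Y)
    [Flat (ψ ≫ h)] (w : W) : (h.stalkMap (ψ w)).hom.Flat := by
  have h1 := Flat.stalkMap (ψ ≫ h) w
  rw [Scheme.Hom.stalkMap_comp] at h1
  have h2 : (inv (ψ.stalkMap w)).hom.Flat :=
    .of_bijective (ConcreteCategory.bijective_of_isIso _)
  have h3 := RingHom.Flat.comp h1 h2
  rw [← CommRingCat.hom_comp, Category.assoc, IsIso.hom_inv_id, Category.comp_id] at h3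
  exact h3

/-- A pullback square stays one after a monomorphism on the base. -/
theorem isPullback_comp_mono {C : Type*} [Category C] {P X Y Z Z' : C} {a : P ⟶ X} {b : P ⟶ Y}
    {f : X ⟶ Z} {g : Y ⟶ Z} (h : IsPullback a b f g) (m : Z ⟶ Z') [Mono m] :
    IsPullback a b (f ≫ m) (g ≫ m) := by
  refine ⟨⟨by rw [reassoc_of% h.w]⟩, ⟨PullbackCone.isLimitAux' _ fun s => ?_⟩⟩
  have hw : s.fst ≫ f = s.snd ≫ g := by
    rw [← cancel_mono m, Category.assoc, Category.assoc]
    exact s.condition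
  refine ⟨h.lift s.fst s.snd hw, h.lift_fst _ _ _, h.lift_snd _ _ _, fun hm1 hm2 => ?_⟩
  exact h.hom_ext (hm1.trans (h.lift_fst _ _ _).symm) (hm2.trans (h.lift_snd _ _ _).symm)

/-- The cut of an affine chart is a chart of the base change of the cut. -/
theorem exists_chart {U R : Scheme.{u}} (t s : R ⟶ U) {A C : Type u} [CommRing A] [CommRing C]
    (w : Spec (.of A) ⟶ U) [Mono w] (I : Ideal A) (oC : Spec (.of C) ⟶ R) [IsOpenImmersion oC]
    (σ τ : A →+* C) (hs : oC ≫ s = Spec.map (CommRingCat.ofHom σ) ≫ w)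
    (ht : oC ≫ t = Spec.map (CommRingCat.ofHom τ) ≫ w) :
    let ι₀ := Spec.map (CommRingCat.ofHom (Ideal.Quotient.mk I)) ≫ w
    ∃ ψ : Spec (.of (C ⧸ I.map τ)) ⟶ pullback ι₀ t, IsOpenImmersion ψ ∧
      ψ ≫ pullback.snd ι₀ t = Spec.map (CommRingCat.ofHom (Ideal.Quotient.mk (I.map τ))) ≫ oC ∧
      ψ ≫ pullback.snd ι₀ t ≫ s =
        Spec.map (CommRingCat.ofHom ((Ideal.Quotient.mk (I.map τ)).comp σ)) ≫ w ∧
      ∀ p c, pullback.snd ι₀ t p = oC c → p ∈ Set.range ψ := by
  intro ι₀
  have hsq := isPullback_comp_mono (AlgSp.InfRing.isPullback_quotient I τ) w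
  rw [← ht] at hsq
  let ψ : Spec (.of (C ⧸ I.map τ)) ⟶ pullback ι₀ t :=
    pullback.lift (Spec.map (CommRingCat.ofHom (Ideal.quotientMap (I.map τ) τ Ideal.le_comap_map)))
      (Spec.map (CommRingCat.ofHom (Ideal.Quotient.mk (I.map τ))) ≫ oC)
      (by rw [Category.assoc]; exact hsq.w.symm)
  have hψs : ψ ≫ pullback.snd ι₀ t = Spec.map (CommRingCat.ofHom (Ideal.Quotient.mk (I.map τ))) ≫ oC :=
    pullback.lift_snd _ _ _
  have hψf : ψ ≫ pullback.fst ι₀ t =
      Spec.map (CommRingCat.ofHom (Ideal.quotientMap (I.map τ) τ Ideal.le_comap_map)) :=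
    pullback.lift_fst _ _ _
  have hcart : IsPullback ψ (Spec.map (CommRingCat.ofHom (Ideal.Quotient.mk (I.map τ))))
      (pullback.snd ι₀ t) oC := by
    refine IsPullback.of_right ?_ hψs (IsPullback.of_hasPullback ι₀ t)
    rw [hψf]
    exact hsq.flip
  refine ⟨ψ, MorphismProperty.of_isPullback (P := @IsOpenImmersion) hcart.flip inferInstance, hψs,
    ?_, fun p c hpc => ?_⟩
  · rw [reassoc_of% hψs, hs, ← Category.assoc, ← Spec.map_comp]
    rfl
  · obtain ⟨z, hz, -⟩ := Scheme.Pullback.exists_preimage_pullback p c hpc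
    refine ⟨hcart.isoPullback.inv z, ?_⟩
    rw [← Scheme.Hom.comp_apply, IsPullback.isoPullback_inv_fst, hz]

end Groth.Agent.GrpdLib.Slice16047
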