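import Groth.Agent.GrpdLib.Slice16047.Flat
import Groth.Agent.GrpdLib.Slice16047.Cut
import Groth.Agent.GrpdLib.Basic
import Groth.Agent.Wt.CMSlice
import Groth.Agent.S0386
import Groth.Agent.S5223
import Mathlib.AlgebraicGeometry.Morphisms.QuasiSeparated
import Mathlib.AlgebraicGeometry.Morphisms.Immersion

/-!
# An affine slice meeting an orbit in finitely many points
-/

set_option autoImplicit false
set_option backward.isDefEq.respectTransparency false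
set_option backward.isDefEq.respectTransparency.types false

universe u

open CategoryTheory Limits AlgebraicGeometry TopologicalSpace

noncomputable section

namespace Groth.Agent.GrpdLib.Slice16047

variable {S : Scheme.{u}} (G : Grpd.GroupoidScheme S)

/-- A point which is closed in its fibre is maximal among the primes of an affine chart in the
same fibre. -/
theorem maximal_in_fibre {U : Scheme.{u}} (pU : U ⟶ S) {S0 : S.Opens} (hS0 : IsAffineOpen S0)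
    {W : U.Opens} (hW : IsAffineOpen W) (e : W ≤ pU ⁻¹ᵁ S0) (x : U) (hxW : x ∈ W)
    (hx : closure ({x} : Set U) ∩ pU ⁻¹' {pU x} = {x}) (q : Ideal Γ(U, W)) (hq : q.IsPrime)
    (hle : (hW.primeIdealOf ⟨x, hxW⟩).asIdeal ≤ q)
    (hcomap : q.comap (pU.appLE S0 W e).hom =
      (hW.primeIdealOf ⟨x, hxW⟩).asIdeal.comap (pU.appLE S0 W e).hom) :
    q = (hW.primeIdealOf ⟨x, hxW⟩).asIdeal := by
  let Pp := hW.primeIdealOf ⟨x, hxW⟩
  have hp : ∀ z : Spec Γ(U, W),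
      pU (hW.fromSpec z) = hS0.fromSpec (Spec.map (pU.appLE S0 W e) z) := fun z => by
    rw [← Scheme.Hom.comp_apply, ← Scheme.Hom.comp_apply, IsAffineOpen.SpecMap_appLE_fromSpec]
  have hxP : hW.fromSpec Pp = x := hW.fromSpec_primeIdealOf ⟨x, hxW⟩
  have hspec : Pp ⤳ (⟨q, hq⟩ : Spec Γ(U, W)) :=
    (PrimeSpectrum.le_iff_specializes Pp ⟨q, hq⟩).mp hle
  have hmem : hW.fromSpec (⟨q, hq⟩ : Spec Γ(U, W)) ∈ closure ({x} : Set U) ∩ pU ⁻¹' {pU x} := by
    refine ⟨specializes_iff_mem_closure.mp (hxP ▸ hspec.map hW.fromSpec.continuous), ?_⟩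
    rw [Set.mem_preimage, Set.mem_singleton_iff, hp, ← hxP, hp]
    exact congrArg _ (PrimeSpectrum.ext hcomap)
  rw [hx, Set.mem_singleton_iff, ← hxP] at hmem
  exact congrArg PrimeSpectrum.asIdeal (hW.fromSpec.isOpenEmbedding.injective hmem)

variable [LocallyOfFiniteType G.pU] [QuasiSeparated G.pU]
  [Flat G.s] [LocallyOfFinitePresentation G.s] [QuasiCompact G.s] [QuasiSeparated G.s]
  [QuasiCompact G.t]

/-- A finitely presented closed subscheme of an affine open, flat along the arrows from a given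
point closed in its fibre and meeting its orbit in finitely many points. -/
theorem exists_cut_subscheme (x : G.U)
    (hx : closure ({x} : Set G.U) ∩ G.pU ⁻¹' {G.pU x} = {x}) :
    ∃ (S0 : S.Opens) (_ : IsAffineOpen S0) (Z : Scheme.{u}) (_ : IsAffine Z) (ι : Z ⟶ G.U),
      IsImmersion ι ∧ LocallyOfFinitePresentation ι ∧ Set.range ι ⊆ G.pU ⁻¹ᵁ S0 ∧
      {z : Z | ∃ r, G.s r = x ∧ G.t r = ι z}.Finite ∧
      (∃ z r, G.s r = x ∧ G.t r = ι z) ∧
      ∀ p : ↥(pullback ι G.t), G.s (pullback.snd ι G.t p) = x →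
        ((pullback.snd ι G.t ≫ G.s).stalkMap p).hom.Flat := by
  classical
  obtain ⟨S0, hS0, hxS0, -⟩ := exists_isAffineOpen_mem_and_subset (x := G.pU x) (U := ⊤) trivial
  obtain ⟨W, hW, hxW, hWle⟩ :=
    exists_isAffineOpen_mem_and_subset (x := x) (U := G.pU ⁻¹ᵁ S0) hxS0
  have hWle' : W ≤ G.pU ⁻¹ᵁ S0 := hWle
  let algA : Algebra Γ(S, S0) Γ(G.U, W) := (G.pU.appLE S0 W hWle').hom.toAlgebra
  have : Algebra.FiniteType Γ(S, S0) Γ(G.U, W) := G.pU.finiteType_appLE hS0 hW hWle'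
  let P := (hW.primeIdealOf ⟨x, hxW⟩).asIdeal
  -- finitely many affine charts of the arrows between points of `W`
  let V : G.R.Opens := (G.s ⁻¹ᵁ W) ⊓ (G.t ⁻¹ᵁ W)
  have hqs : IsQuasiSeparated ((G.pR ⁻¹ᵁ S0 : G.R.Opens) : Set G.R) := by
    have : QuasiSeparated G.pR := G.s_over ▸ inferInstance
    exact G.pR.isQuasiSeparated_preimage hS0.isQuasiSeparated
  have hVc : IsCompact (V : Set G.R) := by
    refine hqs (G.s ⁻¹ᵁ W) (G.t ⁻¹ᵁ W) ?_ (G.s ⁻¹ᵁ W).2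
      (QuasiCompact.isCompact_preimage (f := G.s) _ W.2 hW.isCompact) ?_ (G.t ⁻¹ᵁ W).2
      (QuasiCompact.isCompact_preimage (f := G.t) _ W.2 hW.isCompact)
    · intro r hr
      show G.pR r ∈ S0
      rw [← G.s_over, Scheme.Hom.comp_apply]
      exact hWle hr
    · intro r hr
      show G.pR r ∈ S0
      rw [← G.t_over, Scheme.Hom.comp_apply]
      exact hWle hr
  obtain ⟨Φ, hΦfin, hΦ⟩ : ∃ Φ : Set G.R.affineOpens, Φ.Finite ∧
      (V : Set G.R) = ⋃ i ∈ Φ, ((i : G.R.Opens) : Set G.R) :=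
    isCompact_iff_finite_and_eq_biUnion_affineOpens.mp hVc |>.imp fun _ h => ⟨h.1, by simpa using congrArg SetLike.coe h.2⟩
  have hΦV : ∀ i ∈ Φ, (i : G.R.Opens) ≤ V := fun i hi r hr => by
    show r ∈ (V : Set G.R)
    rw [hΦ]; exact Set.mem_biUnion hi hr
  have hfinΦ : Finite Φ := hΦfin.to_subtype
  let n := Nat.card Φ
  let en : Fin n ≃ Φ := (Finite.equivFin Φ).symm
  let Vj : Fin n → G.R.Opens := fun j => ((en j).1 : G.R.Opens)
  have hVjA : ∀ j, IsAffineOpen (Vj j) := fun j => (en j).1.2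
  have hVjs : ∀ j, Vj j ≤ G.s ⁻¹ᵁ W := fun j => (hΦV _ (en j).2).trans inf_le_left
  have hVjt : ∀ j, Vj j ≤ G.t ⁻¹ᵁ W := fun j => (hΦV _ (en j).2).trans inf_le_right
  have hcov : ∀ r ∈ V, ∃ j, r ∈ Vj j := fun r hr => by
    have hr' : r ∈ (V : Set G.R) := hr
    rw [hΦ] at hr'
    obtain ⟨i, hi, hri⟩ := Set.mem_iUnion₂.mp hr'
    exact ⟨en.symm ⟨i, hi⟩, by simpa [Vj] using hri⟩
  let σ : ∀ j, Γ(G.U, W) →+* Γ(G.R, Vj j) := fun j => (G.s.appLE W (Vj j) (hVjs j)).hom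
  let τ : ∀ j, Γ(G.U, W) →+* Γ(G.R, Vj j) := fun j => (G.t.appLE W (Vj j) (hVjt j)).hom
  have hσfp : ∀ j, (σ j).FinitePresentation := fun j =>
    G.s.finitePresentation_appLE hW (hVjA j) (hVjs j)
  have hστ : ∀ j, (σ j).comp (algebraMap Γ(S, S0) Γ(G.U, W)) =
      (τ j).comp (algebraMap Γ(S, S0) Γ(G.U, W)) := fun j => by
    show (G.pU.appLE S0 W hWle' ≫ G.s.appLE W (Vj j) (hVjs j)).hom =
      (G.pU.appLE S0 W hWle' ≫ G.t.appLE W (Vj j) (hVjt j)).hom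
    rw [Scheme.Hom.appLE_comp_appLE, Scheme.Hom.appLE_comp_appLE]
    simp only [G.s_over, G.t_over]
  have hprime : ∀ j (r : G.R) (hr : r ∈ Vj j),
      ((hVjA j).primeIdealOf ⟨r, hr⟩).asIdeal.comap (σ j) =
        (hW.primeIdealOf ⟨G.s r, hVjs j hr⟩).asIdeal ∧
      ((hVjA j).primeIdealOf ⟨r, hr⟩).asIdeal.comap (τ j) =
        (hW.primeIdealOf ⟨G.t r, hVjt j hr⟩).asIdeal := fun j r hr =>
    ⟨congr($(IsAffineOpen.comap_primeIdealOf_appLE W hW (Vj j) (hVjA j) (hVjs j) hr).asIdeal),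
      congr($(IsAffineOpen.comap_primeIdealOf_appLE W hW (Vj j) (hVjA j) (hVjt j) hr).asIdeal)⟩
  have hPr : ∀ j (r : G.R) (hr : r ∈ Vj j), G.s r = x →
      ((hVjA j).primeIdealOf ⟨r, hr⟩).asIdeal.comap (σ j) = P := fun j r hr hs => by
    rw [(hprime j r hr).1]
    simp [P, hs]
  have hne : ∃ j, ∃ Q : Ideal Γ(G.R, Vj j), Q.IsPrime ∧ Q.comap (σ j) = P := by
    obtain ⟨j, hj⟩ := hcov (G.e x) ⟨show G.s (G.e x) ∈ W by rw [s_e_apply]; exact hxW,
      show G.t (G.e x) ∈ W by rw [t_e_apply]; exact hxW⟩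
    exact ⟨j, _, ((hVjA j).primeIdealOf ⟨_, hj⟩).isPrime, hPr j _ hj (s_e_apply G x)⟩
  obtain ⟨fs, hreg, hfin, hnon⟩ := exists_cut (R0 := Γ(S, S0)) P
    (fun q hq hle hc => maximal_in_fibre G.pU hS0 hW hWle' x hxW hx q hq hle hc)
    (fun j => Γ(G.R, Vj j)) σ τ (fun j => RingHom.FiniteType.of_finitePresentation (hσfp j)) hστ hne
  -- the closed subscheme
  let I : Ideal Γ(G.U, W) := Ideal.ofList fs
  let q0 : Spec (.of (Γ(G.U, W) ⧸ I)) ⟶ Spec Γ(G.U, W) :=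
    Spec.map (CommRingCat.ofHom (Ideal.Quotient.mk I))
  have : IsClosedImmersion q0 :=
    IsClosedImmersion.spec_of_surjective _ Ideal.Quotient.mk_surjective
  have : LocallyOfFinitePresentation q0 := by
    rw [HasRingHomProperty.Spec_iff (P := @LocallyOfFinitePresentation)]
    exact RingHom.FinitePresentation.of_surjective _ Ideal.Quotient.mk_surjective
      (by rw [CommRingCat.hom_ofHom, Ideal.mk_ker]; exact ⟨fs.toFinset, by simp [I, Ideal.ofList]⟩)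
  let ι : Spec (.of (Γ(G.U, W) ⧸ I)) ⟶ G.U := q0 ≫ hW.fromSpec
  have hιq : ∀ z, q0 z ∈ PrimeSpectrum.zeroLocus (I : Set Γ(G.U, W)) := fun z => by
    intro a ha
    show Ideal.Quotient.mk I a ∈ z.asIdeal
    rw [Ideal.Quotient.eq_zero_iff_mem.mpr ha]
    exact zero_mem _
  have hιW : ∀ z, ι z ∈ W := fun z => by
    rw [← SetLike.mem_coe, ← hW.range_fromSpec]
    exact ⟨q0 z, rfl⟩
  have hιp : ∀ z, hW.primeIdealOf ⟨ι z, hιW z⟩ = q0 z := fun z =>
    hW.fromSpec.isOpenEmbedding.injective (hW.fromSpec_primeIdealOf ⟨_, hιW z⟩)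
  have hroot : ∀ z (r : G.R), G.s r = x → G.t r = ι z → ∃ j, ∃ hr : r ∈ Vj j,
      I.map (τ j) ≤ ((hVjA j).primeIdealOf ⟨r, hr⟩).asIdeal ∧
      ((hVjA j).primeIdealOf ⟨r, hr⟩).asIdeal.comap (τ j) = (q0 z).asIdeal := by
    intro z r hs ht
    obtain ⟨j, hj⟩ := hcov r ⟨show G.s r ∈ W by rw [hs]; exact hxW,
      show G.t r ∈ W by rw [ht]; exact hιW z⟩
    have h2 : ((hVjA j).primeIdealOf ⟨r, hj⟩).asIdeal.comap (τ j) = (q0 z).asIdeal := by
      rw [(hprime j r hj).2, ← hιp z]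
      simp only [ht]
    exact ⟨j, hj, Ideal.map_le_iff_le_comap.mpr (h2 ▸ hιq z), h2⟩
  refine ⟨S0, hS0, _, inferInstance, ι, inferInstance, inferInstance, ?_, ?_, ?_, ?_⟩
  · rintro _ ⟨z, rfl⟩
    exact hWle (hιW z)
  · refine Set.Finite.of_finite_image (f := fun z => (q0 z).asIdeal) (hfin.subset ?_)
      (fun a _ b _ h => q0.isClosedEmbedding.injective (PrimeSpectrum.ext h))
    rintro _ ⟨z, ⟨r, hs, ht⟩, rfl⟩
    obtain ⟨j, hr, hle, he⟩ := hroot z r hs ht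
    exact ⟨j, _, ((hVjA j).primeIdealOf ⟨r, hr⟩).isPrime, hPr j r hr hs, hle, he⟩
  · obtain ⟨j, Q, hQ, hQP, hle⟩ := hnon
    let r : G.R := (hVjA j).fromSpec ⟨Q, hQ⟩
    have hr : r ∈ Vj j := by
      rw [← SetLike.mem_coe, ← (hVjA j).range_fromSpec]
      exact ⟨⟨Q, hQ⟩, rfl⟩
    have hrQ : (hVjA j).primeIdealOf ⟨r, hr⟩ = ⟨Q, hQ⟩ :=
      (hVjA j).fromSpec.isOpenEmbedding.injective ((hVjA j).fromSpec_primeIdealOf ⟨r, hr⟩)
    have hs : G.s r = x := by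
      have h1 : hW.primeIdealOf ⟨G.s r, hVjs j hr⟩ = hW.primeIdealOf ⟨x, hxW⟩ :=
        PrimeSpectrum.ext ((hprime j r hr).1.symm.trans (by rw [hrQ]; exact hQP))
      simpa [IsAffineOpen.fromSpec_primeIdealOf] using congrArg hW.fromSpec h1
    have hI : I ≤ (hW.primeIdealOf ⟨G.t r, hVjt j hr⟩).asIdeal := by
      rw [← (hprime j r hr).2, hrQ]
      exact Ideal.map_le_iff_le_comap.mp hle
    obtain ⟨z, hz⟩ : hW.primeIdealOf ⟨G.t r, hVjt j hr⟩ ∈ Set.range q0 := by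
      show _ ∈ Set.range (PrimeSpectrum.comap (Ideal.Quotient.mk I))
      rw [range_comap_of_surjective _ _ Ideal.Quotient.mk_surjective, Ideal.mk_ker]
      exact hI
    refine ⟨z, r, hs, ?_⟩
    show G.t r = hW.fromSpec (q0 z)
    rw [hz, IsAffineOpen.fromSpec_primeIdealOf]
  intro p hp
  obtain ⟨j, hr, hle, -⟩ := hroot (pullback.fst ι G.t p) (pullback.snd ι G.t p) hp (by
    rw [← Scheme.Hom.comp_apply, ← Scheme.Hom.comp_apply, pullback.condition])
  let r := pullback.snd ι G.t p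
  let Q := (hVjA j).primeIdealOf ⟨r, hr⟩
  let algσ : Algebra Γ(G.U, W) Γ(G.R, Vj j) := (σ j).toAlgebra
  have : Algebra.FinitePresentation Γ(G.U, W) Γ(G.R, Vj j) := hσfp j
  have : Module.Flat Γ(G.U, W) Γ(G.R, Vj j) := G.s.flat_appLE hW (hVjA j) (hVjs j)
  have hflatQ : FlatCA.FlatAt Γ(G.U, W) Q.asIdeal Γ(G.R, Vj j) :=
    Module.Flat.trans Γ(G.U, W) Γ(G.R, Vj j) (LocalizedModule Q.asIdeal.primeCompl Γ(G.R, Vj j))
  obtain ⟨g, hgQ, hg⟩ := Wt.CMSlice.exists_slices Q hflatQ (fs.map (τ j)) (by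
    intro l₁ h l₂ he m hm
    obtain ⟨a₁, a₂', hfs, rfl, ha₂⟩ := List.map_eq_append_iff.mp he
    obtain ⟨a, a₂, rfl, rfl, rfl⟩ := List.map_eq_cons_iff.mp ha₂
    rw [show Q.asIdeal.comap (algebraMap Γ(G.U, W) Γ(G.R, Vj j)) = P from hPr j r hr hp] at *
    have key := hreg a₁ a a₂ hfs j Q.asIdeal Q.isPrime (hPr j r hr hp) m
    rw [Ideal.map_ofList] at key
    exact key hm)
  let C := Localization.Away g
  obtain ⟨-, hflat⟩ := hg g dvd_rfl C
  let oC : Spec (.of C) ⟶ G.R :=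
    Spec.map (CommRingCat.ofHom (algebraMap Γ(G.R, Vj j) C)) ≫ (hVjA j).fromSpec
  have hsC : oC ≫ G.s = Spec.map (CommRingCat.ofHom ((algebraMap Γ(G.R, Vj j) C).comp (σ j))) ≫
      hW.fromSpec := by
    rw [CommRingCat.ofHom_comp, Spec.map_comp, Category.assoc, Category.assoc,
      ← IsAffineOpen.SpecMap_appLE_fromSpec G.s hW (hVjA j) (hVjs j)]
    rfl
  have htC : oC ≫ G.t = Spec.map (CommRingCat.ofHom ((algebraMap Γ(G.R, Vj j) C).comp (τ j))) ≫
      hW.fromSpec := by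
    rw [CommRingCat.ofHom_comp, Spec.map_comp, Category.assoc, Category.assoc,
      ← IsAffineOpen.SpecMap_appLE_fromSpec G.t hW (hVjA j) (hVjt j)]
    rfl
  obtain ⟨ψ, hψ, hψs, hψh, hψr⟩ := exists_chart G.t G.s hW.fromSpec I oC _ _ hsC htC
  have : IsOpenImmersion ψ := hψ
  have : Flat (ψ ≫ pullback.snd ι G.t ≫ G.s) := by
    rw [hψh]
    have hf : Flat (Spec.map (CommRingCat.ofHom ((Ideal.Quotient.mk (I.map
        ((algebraMap Γ(G.R, Vj j) C).comp (τ j)))).comp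
        ((algebraMap Γ(G.R, Vj j) C).comp (σ j))))) := by
      rw [HasRingHomProperty.Spec_iff (P := @Flat), CommRingCat.hom_ofHom]
      have e : I.map ((algebraMap Γ(G.R, Vj j) C).comp (τ j)) =
          Ideal.ofList ((fs.map (τ j)).map (algebraMap Γ(G.R, Vj j) C)) := by
        rw [Ideal.map_ofList, List.map_map]; rfl
      rw [e, show ((Ideal.Quotient.mk (Ideal.ofList ((fs.map (τ j)).map
          (algebraMap Γ(G.R, Vj j) C)))).comp ((algebraMap Γ(G.R, Vj j) C).comp (σ j))) =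
        algebraMap Γ(G.U, W) _ from rfl]
      exact RingHom.flat_algebraMap_iff.mpr hflat
    infer_instance
  -- the point is in the chart
  obtain ⟨w, hw⟩ : ∃ w, ψ w = p := by
    obtain ⟨c, hc⟩ : Q ∈ Set.range (PrimeSpectrum.comap (algebraMap Γ(G.R, Vj j) C)) := by
      rw [PrimeSpectrum.localization_away_comap_range C g]
      exact hgQ
    refine hψr p c ?_
    show r = (hVjA j).fromSpec (Spec.map (CommRingCat.ofHom (algebraMap Γ(G.R, Vj j) C)) c)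
    rw [show Spec.map (CommRingCat.ofHom (algebraMap Γ(G.R, Vj j) C)) c = Q from hc]
    exact ((hVjA j).fromSpec_primeIdealOf ⟨r, hr⟩).symm
  rw [← hw]
  exact flat_stalkMap_of_chart ψ (pullback.snd ι G.t ≫ G.s) w

end Groth.Agent.GrpdLib.Slice16047
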