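import Groth.Agent.GrpdLib.Slice16047.Geom

/-!
# Translating by arrows, and the affine slice with flat arrows
-/

set_option autoImplicit false
set_option backward.isDefEq.respectTransparency false
set_option backward.isDefEq.respectTransparency.types false

universe u

open CategoryTheory Limits AlgebraicGeometry TopologicalSpace

noncomputable section

namespace Groth.Agent.GrpdLib.Slice16047

variable {S : Scheme.{u}} (G : Grpd.GroupoidScheme S) {Z : Scheme.{u}} (ι : Z ⟶ G.U)

/-- The source of the arrows starting at the slice. -/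
abbrev hOf : pullback ι G.t ⟶ G.U := pullback.snd ι G.t ≫ G.s

/-- Composition with an arrow. -/
def mul : pullback (hOf G ι) G.t ⟶ pullback ι G.t :=
  pullback.lift (pullback.fst (hOf G ι) G.t ≫ pullback.fst ι G.t)
    (comp G (pullback.fst (hOf G ι) G.t ≫ pullback.snd ι G.t) (pullback.snd (hOf G ι) G.t)
      (by rw [Category.assoc]; exact pullback.condition))
    (by rw [comp_t, Category.assoc, Category.assoc, pullback.condition])

@[reassoc] lemma mul_fst :
    mul G ι ≫ pullback.fst ι G.t = pullback.fst (hOf G ι) G.t ≫ pullback.fst ι G.t :=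
  pullback.lift_fst _ _ _

lemma mul_snd : mul G ι ≫ pullback.snd ι G.t =
    comp G (pullback.fst (hOf G ι) G.t ≫ pullback.snd ι G.t) (pullback.snd (hOf G ι) G.t)
      (by rw [Category.assoc]; exact pullback.condition) :=
  pullback.lift_snd _ _ _

lemma mul_h : mul G ι ≫ hOf G ι = pullback.snd (hOf G ι) G.t ≫ G.s := by
  rw [← Category.assoc, mul_snd, comp_s]

theorem isPullback_mul : IsPullback (mul G ι) (pullback.snd (hOf G ι) G.t) (hOf G ι) G.s := by
  refine ⟨⟨mul_h G ι⟩, ⟨PullbackCone.isLimitAux' _ fun c => ?_⟩⟩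
  have hc : (c.fst ≫ pullback.snd ι G.t) ≫ G.s = (c.snd ≫ G.i) ≫ G.t := by
    simpa [hOf] using c.condition
  let β := comp G (c.fst ≫ pullback.snd ι G.t) (c.snd ≫ G.i) hc
  have hβ : (c.fst ≫ pullback.fst ι G.t) ≫ ι = β ≫ G.t := by
    simp only [β, comp_t, Category.assoc, pullback.condition]
  let a := pullback.lift (c.fst ≫ pullback.fst ι G.t) β hβ
  have ha : a ≫ hOf G ι = c.snd ≫ G.t := by
    simp [a, hOf, β]
  refine ⟨pullback.lift a c.snd ha, ?_, pullback.lift_snd _ _ _, fun {m} hm1 hm2 => ?_⟩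
  · apply pullback.hom_ext
    · simp [mul_fst, a]
    · rw [PullbackCone.mk_fst, Category.assoc, mul_snd, naturality]
      refine (comp_congr G _ (comp_s G _ _ hc |>.trans (by simp)) (by simp [a, β]) (by simp)).trans
        (comp_inv_cancel_right G _ _ (by simpa [hOf] using c.condition))
  · change c.pt ⟶ pullback (hOf G ι) G.t at m
    rw [PullbackCone.mk_snd] at hm2
    rw [PullbackCone.mk_fst] at hm1
    apply pullback.hom_ext
    swap
    · rw [pullback.lift_snd]; exact hm2
    rw [pullback.lift_fst]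
    apply pullback.hom_ext
    · simp only [a, pullback.lift_fst, ← hm1, Category.assoc, mul_fst]
    · simp only [a, pullback.lift_snd, β]
      have h1 : (m ≫ pullback.fst (hOf G ι) G.t ≫ pullback.snd ι G.t) ≫ G.s = c.snd ≫ G.t := by
        rw [← hm2, Category.assoc, Category.assoc, Category.assoc]
        exact congrArg (m ≫ ·) pullback.condition
      have h2 : c.fst ≫ pullback.snd ι G.t =
          comp G (m ≫ pullback.fst (hOf G ι) G.t ≫ pullback.snd ι G.t) c.snd h1 := by
        rw [← hm1, Category.assoc, mul_snd, naturality]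
        exact comp_congr G _ _ rfl hm2
      rw [Category.assoc]
      exact ((comp_congr G hc (by rw [comp_s]; simp) h2 rfl).trans
        (comp_cancel_right G _ _ h1)).symm

/-- The identity section on the slice. -/
def idSec : Z ⟶ pullback ι G.t := pullback.lift (𝟙 Z) (ι ≫ G.e) (by simp)

lemma idSec_h : idSec G ι ≫ hOf G ι = ι := by simp [idSec]

/-- Flatness of the arrows at a point reduces to flatness at the identity arrow. -/
theorem flat_iff_idSec [Flat G.s] [Flat G.t] (p : ↥(pullback ι G.t)) :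
    ((hOf G ι).stalkMap p).hom.Flat ↔
      ((hOf G ι).stalkMap (idSec G ι (pullback.fst ι G.t p))).hom.Flat := by
  let φ : pullback ι G.t ⟶ pullback (hOf G ι) G.t :=
    pullback.lift (pullback.fst ι G.t ≫ idSec G ι) (pullback.snd ι G.t)
      (by rw [Category.assoc, idSec_h, pullback.condition])
  have h1 : φ ≫ mul G ι = 𝟙 _ := by
    apply pullback.hom_ext
    · simp [φ, mul_fst, idSec]
    · rw [Category.assoc, mul_snd, naturality, Category.id_comp]
      refine (comp_congr G _ (by simpa using pullback.condition) (β' := pullback.snd ι G.t) ?_ (by simp [φ])).trans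
        (e_comp G _ (pullback.fst ι G.t ≫ ι) (by simp; exact pullback.condition))
      simp [φ, idSec]
  have h2 : φ ≫ pullback.fst (hOf G ι) G.t = pullback.fst ι G.t ≫ idSec G ι := pullback.lift_fst _ _ _
  have a := S5223.result (isPullback_mul G ι) (φ p)
  have b := S5223.result (IsPullback.of_hasPullback (hOf G ι) G.t) (φ p)
  have e1 : mul G ι (φ p) = p := by rw [← Scheme.Hom.comp_apply, h1]; rfl
  have e2 : pullback.fst (hOf G ι) G.t (φ p) = idSec G ι (pullback.fst ι G.t p) := by
    rw [← Scheme.Hom.comp_apply, h2]; rfl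
  rw [e1] at a
  rw [e2] at b
  exact a.symm.trans b

/-- A morphism flat at every point is flat. -/
theorem flat_of_stalks {X Y : Scheme.{u}} (f : X ⟶ Y)
    (h : ∀ x, (f.stalkMap x).hom.Flat) : Flat f :=
  (Flat.iff_flat_stalkMap f).mpr h

/-- An affine slice along which the arrows are flat, meeting the orbit in finitely many points. -/
theorem exists_affine_slice [LocallyOfFiniteType G.pU] [QuasiSeparated G.pU]
    [Flat G.s] [LocallyOfFinitePresentation G.s] [QuasiCompact G.s] [QuasiSeparated G.s]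
    [Flat G.t] [QuasiCompact G.t] (x : G.U)
    (hx : closure ({x} : Set G.U) ∩ G.pU ⁻¹' {G.pU x} = {x}) :
    ∃ (S0 : S.Opens) (_ : IsAffineOpen S0) (Z : Scheme.{u}) (_ : IsAffine Z) (ι : Z ⟶ G.U),
      IsImmersion ι ∧ LocallyOfFinitePresentation ι ∧ Set.range ι ⊆ G.pU ⁻¹ᵁ S0 ∧
      Flat (hOf G ι) ∧ {z : Z | ∃ r, G.s r = x ∧ G.t r = ι z}.Finite ∧
      ∃ z r, G.s r = x ∧ G.t r = ι z := by
  obtain ⟨S0, hS0, Z₀, hZ₀, ι₀, himm, hlfp, hrange, hfin, ⟨z₀, r₀, hr₀s, hr₀t⟩, hflat⟩ :=
    exists_cut_subscheme G x hx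
  have : LocallyOfFinitePresentation (hOf G ι₀) := inferInstance
  let O : (pullback ι₀ G.t).Opens := ⟨_, S0386.result (hOf G ι₀)⟩
  obtain ⟨p₀, hp₀1, hp₀2⟩ := Scheme.Pullback.exists_preimage_pullback z₀ r₀ hr₀t.symm
  have hz₀ : z₀ ∈ idSec G ι₀ ⁻¹ᵁ O := by
    show ((hOf G ι₀).stalkMap (idSec G ι₀ z₀)).hom.Flat
    rw [← hp₀1]
    exact (flat_iff_idSec G ι₀ p₀).mp (hflat p₀ (by rw [hp₀2]; exact hr₀s))
  obtain ⟨D, hD, hzD, hDO⟩ := exists_isAffineOpen_mem_and_subset hz₀
  have hDaff : IsAffine D.toScheme := hD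
  let ι := D.ι ≫ ι₀
  have hflat' : Flat (hOf G ι) := by
    let μ : pullback ι G.t ⟶ pullback ι₀ G.t :=
      pullback.lift (pullback.fst ι G.t ≫ D.ι) (pullback.snd ι G.t)
        (by rw [Category.assoc]; exact pullback.condition)
    have hμ : IsOpenImmersion μ := by
      have hsq : IsPullback μ (pullback.fst ι G.t) (pullback.fst ι₀ G.t) D.ι :=
        IsPullback.of_right (h₁₂ := pullback.snd ι₀ G.t) (h₂₂ := ι₀)
          (by rw [pullback.lift_snd]; exact (IsPullback.of_hasPullback ι G.t).flip)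
          (pullback.lift_fst _ _ _) (IsPullback.of_hasPullback ι₀ G.t).flip
      exact MorphismProperty.of_isPullback (P := @IsOpenImmersion) hsq.flip inferInstance
    refine flat_of_stalks _ fun p => ?_
    have e : hOf G ι = μ ≫ hOf G ι₀ := by simp [μ, hOf]
    have hp : ((hOf G ι₀).stalkMap (μ p)).hom.Flat := by
      rw [flat_iff_idSec]
      have : pullback.fst ι₀ G.t (μ p) = D.ι (pullback.fst ι G.t p) := by
        rw [← Scheme.Hom.comp_apply, pullback.lift_fst]; rfl
      rw [this]
      exact hDO (Subtype.prop _)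
    rw [e, Scheme.Hom.stalkMap_comp, CommRingCat.hom_comp]
    exact RingHom.Flat.comp hp (.of_bijective (ConcreteCategory.bijective_of_isIso (μ.stalkMap p)))
  refine ⟨S0, hS0, D.toScheme, hDaff, ι, inferInstance, inferInstance, ?_, hflat', ?_, ?_⟩
  · rintro _ ⟨z, rfl⟩
    exact hrange ⟨_, rfl⟩
  · exact (hfin.preimage (f := D.ι) D.ι.isOpenEmbedding.injective.injOn).subset fun z h => h
  · exact ⟨⟨z₀, hzD⟩, r₀, hr₀s, hr₀t⟩

end Groth.Agent.GrpdLib.Slice16047
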